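import Cfsg.Agent.H209.EPX.Defs_m3
import Cfsg.Agent.H579.ElevenMat
import Cfsg.Agent.Lib.FastPerm
import Cfsg.Agent.S0799
import Cfsg.Agent.TwoFusion.SLTwoFacts
import Mathlib
import Cfsg.Agent.H220.EP.PermSeven
import Cfsg.Agent.S0254
import Cfsg.Agent.H281.Reg.Small
import Cfsg.Agent.S0813
import Cfsg.Agent.S0265
import Cfsg.Agent.FastGrp
import Cfsg.Agent.Prune
set_option linter.all false

section
prune_inst 0x7f00000000000000000000000000000000000000000000000000000000000000000000000000000000000000000000000000000000000000000000000000000000000000000000000000000000000000003fffffffffffffffffffffffffffbeffbdffffffff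

-- part: H417/EP/Weight
section
set_option linter.all false
open scoped Cfsg.Agent.FastGrp

/-!
# Extremely primitive groups: a weighted count (helper417)

`L` a normal subgroup of the point stabiliser, given by `ι : L →* Q`. The traces `L ∩ A^x` are *admissible* subgroups
of `L` (`Adm`); a weight on `L` for which all admissible subgroups are heavy bounds the index of `A`.
-/

set_option autoImplicit false

namespace Cfsg.Agent.H417.EP

open Subgroup MulAction
open Cfsg.Agent.H284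

/-- the possible traces, on a normal subgroup `L`, of the stabiliser of a second point -/
structure Adm {L : Type*} [Group L] (K : Subgroup L) : Prop where
  ne_bot : K ≠ ⊥
  ne_top : K ≠ ⊤
  norm : ∀ X : Subgroup L, X ≤ K → X ≠ ⊥ → (∀ φ : MulAut K, ∀ y : K, (y : L) ∈ X → ((φ y : K) : L) ∈ X) →
    ∀ g : L, (∀ x ∈ X, g * x * g⁻¹ ∈ X) → g ∈ K

variable {Q : Type*} [Group Q] [Finite Q] {A : Subgroup Q} {Γ : Subgroup (MulAut Q)}
  {L : Type*} [Group L]

/-- the trace of the stabiliser of `xA` -/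
def tr (ι : L →* Q) (A : Subgroup Q) (x : Q) : Subgroup L := (cj x A).comap ι

omit [Finite Q] in
theorem mem_tr {ι : L →* Q} {x : Q} {l : L} : l ∈ tr ι A x ↔ x⁻¹ * ι l * x ∈ A := by
  rw [tr, mem_comap, mem_cj]

/-- `L` as a `Γ`-invariant subgroup of `A` -/
structure Inv (A : Subgroup Q) (Γ : Subgroup (MulAut Q)) (ι : L →* Q) : Prop where
  inj : Function.Injective ι
  mem : ∀ l, ι l ∈ A
  inv : ∀ σ ∈ Γ, ∀ l, ∃ l', σ (ι l) = ι l'

/-- the automorphism of the trace induced by an element of the stabiliser -/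
theorem exists_aut (h : EPT A Γ) {ι : L →* Q} (hi : Inv A Γ ι) {x : Q} {σ : MulAut Q} (hσ : σ ∈ Γ)
    (hσx : x⁻¹ * σ x ∈ A) : ∃ φ : MulAut (tr ι A x), ∀ y : tr ι A x, σ (ι y) = ι ((φ y : tr ι A x) : L) := by
  have hmem : ∀ l : L, l ∈ tr ι A x → ∀ l', σ (ι l) = ι l' → l' ∈ tr ι A x := by
    intro l hl l' he
    have h1 : ι l ∈ A ⊓ cj x A := ⟨hi.mem l, mem_cj.2 (mem_tr.1 hl)⟩
    have h2 := h.stab_M0 hσ hσx h1
    rw [he] at h2
    exact mem_tr.2 (mem_cj.1 h2.2)
  choose f hf using fun y : tr ι A x => hi.inv σ hσ y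
  let g : tr ι A x →* tr ι A x :=
    { toFun := fun y => ⟨f y, hmem y y.2 _ (hf y)⟩
      map_one' := by
        apply Subtype.ext
        apply hi.inj
        show ι (f 1) = ι 1
        rw [← hf, OneMemClass.coe_one, map_one, map_one]
      map_mul' := by
        intro y z
        apply Subtype.ext
        apply hi.inj
        show ι (f (y * z)) = ι (f y * f z)
        rw [← hf, map_mul, ← hf, ← hf, Subgroup.coe_mul, map_mul, map_mul] }
  have hg : Function.Injective g := by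
    intro y z e
    have e1 : f y = f z := Subtype.ext_iff.1 e
    have e2 : σ (ι y) = σ (ι z) := by rw [hf, hf, e1]
    exact Subtype.ext (hi.inj (σ.injective e2))
  have : Finite L := Finite.of_injective ι hi.inj
  exact ⟨MulEquiv.ofBijective g (Finite.injective_iff_bijective.1 hg), fun y => hf y⟩

/-- `N_A(X) ≤ A^x` for `X ≠ 1` characteristic in the trace -/
theorem norm_tr (h : EPT A Γ) {ι : L →* Q} (hi : Inv A Γ ι) {x : Q} (hx : x ∉ A) {X : Subgroup L} (hX : X ≤ tr ι A x)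
    (hne : X ≠ ⊥) (hc : ∀ φ : MulAut (tr ι A x), ∀ y : tr ι A x, (y : L) ∈ X → ((φ y : tr ι A x) : L) ∈ X)
    {a : Q} (ha : a ∈ A) (haX : ∀ y ∈ X, ∃ z ∈ X, a * ι y * a⁻¹ = ι z) : a ∈ cj x A := by
  rw [← h.conj_stab ha]
  refine h.norm x hx (X.map ι) ?_ ?_ ?_ _ ((h.conj a).2 ha) ?_
  · rintro _ ⟨y, hy, rfl⟩
    exact ⟨hi.mem y, mem_cj.2 (mem_tr.1 (hX hy))⟩
  · rintro σ hσ hσx _ ⟨y, hy, rfl⟩
    obtain ⟨φ, hφ⟩ := exists_aut h hi hσ hσx
    have h1 := hφ ⟨y, hX hy⟩
    exact ⟨_, hc φ ⟨y, hX hy⟩ hy, h1.symm⟩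
  · intro e
    rw [Subgroup.map_eq_bot_iff_of_injective _ hi.inj] at e
    exact hne e
  · rintro _ ⟨y, hy, rfl⟩
    obtain ⟨z, hz, e⟩ := haX y hy
    exact ⟨z, hz, e.symm⟩

theorem adm_tr (h : EPT A Γ) {ι : L →* Q} (hi : Inv A Γ ι) [Nontrivial L] {x : Q} (hx : x ∉ A)
    (hne : tr ι A x ≠ ⊥) : Adm (tr ι A x) where
  ne_bot := hne
  ne_top := by
    intro e
    have h1 : ι.range = ⊥ := by
      refine h.F1 x hx ι.range ?_ ?_ ?_
      · rintro _ ⟨l, rfl⟩
        exact hi.mem l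
      · rintro σ hσ _ ⟨l, rfl⟩
        obtain ⟨l', e⟩ := hi.inv σ hσ l
        exact ⟨l', e.symm⟩
      · rintro _ ⟨l, rfl⟩
        have h2 : l ∈ tr ι A x := by rw [e]; exact mem_top l
        exact mem_cj.2 (mem_tr.1 h2)
    obtain ⟨a, b, hab⟩ := exists_pair_ne L
    apply hab
    apply hi.inj
    have h3 : ∀ l, ι l = 1 := fun l => by
      have : ι l ∈ ι.range := ⟨l, rfl⟩
      rwa [h1, mem_bot] at this
    rw [h3, h3]
  norm := by
    intro X hX hXne hc g hg
    exact mem_tr.2 (mem_cj.1 (norm_tr h hi hx hX hXne hc (hi.mem g) fun y hy => ⟨_, hg y hy, by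
      rw [map_mul, map_mul, map_inv]⟩))

/-- the two-point stabilisers are determined by their traces -/
theorem eq_of_tr (h : EPT A Γ) {ι : L →* Q} (hi : Inv A Γ ι) {x y : Q} (hy : y ∉ A)
    (hne : tr ι A x ≠ ⊥) (e : tr ι A x = tr ι A y) : A ⊓ cj x A ≤ A ⊓ cj y A := by
  intro a ha
  refine ⟨ha.1, ?_⟩
  refine norm_tr h hi hy (X := tr ι A y) le_rfl (by rw [← e]; exact hne) (fun φ z _ => (φ z).2) ha.1 ?_
  intro l hl
  obtain ⟨l', hl'⟩ := hi.inv _ ((h.conj a).2 ha.1) l
  rw [MulAut.conj_apply] at hl'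
  refine ⟨l', ?_, hl'⟩
  rw [← e] at hl ⊢
  rw [mem_tr, ← hl']
  have h1 := mem_cj.1 ha.2
  have h2 := mem_tr.1 hl
  have h3 : x⁻¹ * (a * ι l * a⁻¹) * x = (x⁻¹ * a * x) * (x⁻¹ * ι l * x) * (x⁻¹ * a * x)⁻¹ := by group
  rw [h3]
  exact A.mul_mem (A.mul_mem h1 h2) (A.inv_mem h1)

/-- the number of two-point stabilisers is at most the number of admissible subgroups -/
theorem ncard_le (h : EPT A Γ) {ι : L →* Q} (hi : Inv A Γ ι) [Nontrivial L]
    (hne : ∀ x, x ∉ A → tr ι A x ≠ ⊥) :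
    {M : Subgroup Q | ∃ x, x ∉ A ∧ M = A ⊓ cj x A}.ncard ≤ {K : Subgroup L | Adm K}.ncard := by
  have : Finite L := Finite.of_injective ι hi.inj
  refine Set.ncard_le_ncard_of_injOn (fun M : Subgroup Q => M.comap ι) ?_ ?_ (Set.toFinite _)
  · rintro _ ⟨x, hx, rfl⟩
    have e : (A ⊓ cj x A).comap ι = tr ι A x := by
      ext l
      rw [mem_comap, mem_inf, mem_cj, mem_tr]
      exact and_iff_right (hi.mem l)
    show Adm ((A ⊓ cj x A).comap ι)
    rw [e]
    exact adm_tr h hi hx (hne x hx)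
  · rintro _ ⟨x, hx, rfl⟩ _ ⟨y, hy, rfl⟩ e
    have e1 : ∀ z : Q, (A ⊓ cj z A).comap ι = tr ι A z := by
      intro z
      ext l
      rw [mem_comap, mem_inf, mem_cj, mem_tr]
      exact and_iff_right (hi.mem l)
    have e' : tr ι A x = tr ι A y := by
      rw [← e1, ← e1]
      exact e
    exact le_antisymm (eq_of_tr h hi hy (hne x hx) e') (eq_of_tr h hi hx (hne y hy) e'.symm)

open Classical in
/-- **The weighted count.** -/
theorem weight_bound (h : EPT A Γ) {ι : L →* Q} (hi : Inv A Γ ι) [Nontrivial L] [Fintype L]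
    (hne : ∀ x, x ∉ A → tr ι A x ≠ ⊥) (w : L → ℕ) (hw1 : w 1 = 0) {c W m : ℕ}
    (hc : ∀ K : Subgroup L, Adm K → c ≤ ∑ t : L, if t ∈ K then w t else 0) (hW : ∑ t : L, w t ≤ W)
    (hm : {K : Subgroup L | Adm K}.ncard ≤ m) : (A.index - 1) * c ≤ W * (m - 1) := by
  have hr := (ncard_le h hi hne).trans hm
  set r := {M : Subgroup Q | ∃ x, x ∉ A ∧ M = A ⊓ cj x A}.ncard with hrdef
  have : Fintype (Q ⧸ A) := Fintype.ofFinite _
  let b : Q ⧸ A := ((1 : Q) : Q ⧸ A)
  have hcard : A.index - 1 = (Finset.univ.filter fun p : Q ⧸ A => p ≠ b).card := by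
    rw [Finset.filter_ne', Finset.card_erase_of_mem (Finset.mem_univ _), Finset.card_univ, ← Nat.card_eq_fintype_card]
    rfl
  have hst : ∀ (x : Q) (t : L), ι t • ((x : Q) : Q ⧸ A) = ((x : Q) : Q ⧸ A) ↔ t ∈ tr ι A x := by
    intro x t
    rw [MulAction.Quotient.smul_coe, smul_eq_mul, eq_comm, QuotientGroup.eq, mem_tr, mul_assoc]
  have h1 : (A.index - 1) * c ≤ ∑ p ∈ Finset.univ.filter (fun p : Q ⧸ A => p ≠ b),
      ∑ t : L, if ι t • p = p then w t else 0 := by
    rw [hcard, ← smul_eq_mul, ← Finset.sum_const]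
    apply Finset.sum_le_sum
    intro p hp
    obtain ⟨x, rfl⟩ := QuotientGroup.mk_surjective p
    have hx : x ∉ A := by
      intro hx
      apply (Finset.mem_filter.1 hp).2
      show ((x : Q) : Q ⧸ A) = ((1 : Q) : Q ⧸ A)
      rw [eq_comm, QuotientGroup.eq, inv_one, one_mul]
      exact hx
    refine (hc _ (adm_tr h hi hx (hne x hx))).trans (le_of_eq ?_)
    apply Finset.sum_congr rfl
    intro t _
    exact if_congr (hst x t).symm rfl rfl
  refine h1.trans ?_
  rw [Finset.sum_comm]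
  have h2 : ∀ t : L, (∑ p ∈ Finset.univ.filter (fun p : Q ⧸ A => p ≠ b), if ι t • p = p then w t else 0) ≤
      w t * (m - 1) := by
    intro t
    rcases eq_or_ne t 1 with rfl | ht
    · rw [hw1, zero_mul]
      refine le_of_eq (Finset.sum_eq_zero fun p _ => ?_)
      rw [ite_self]
    · rw [← Finset.sum_filter, Finset.sum_const, smul_eq_mul, mul_comm]
      apply Nat.mul_le_mul_left
      have h3 := h.fix_le (ι t) (fun e => ht (hi.inj (by rw [e, map_one])))
      rw [← hrdef] at h3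
      have h4 : ((Finset.univ.filter fun p : Q ⧸ A => p ≠ b).filter fun p => ι t • p = p) =
          (Finset.univ.filter fun p : Q ⧸ A => ι t • p = p).erase b := by
        ext p
        rw [Finset.mem_filter, Finset.mem_filter, Finset.mem_erase, Finset.mem_filter]
        tauto
      have h5 : b ∈ Finset.univ.filter fun p : Q ⧸ A => ι t • p = p := by
        rw [Finset.mem_filter]
        refine ⟨Finset.mem_univ _, ?_⟩
        rw [hst, mem_tr, inv_one, one_mul, mul_one]
        exact hi.mem t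
      rw [h4, Finset.card_erase_of_mem h5]
      apply Nat.sub_le_sub_right
      refine le_trans ?_ (h3.trans hr)
      rw [← Set.ncard_coe_finset]
      refine le_of_eq (congrArg _ ?_)
      ext p
      simp
  refine (Finset.sum_le_sum fun t _ => h2 t).trans ?_
  rw [← Finset.sum_mul]
  exact Nat.mul_le_mul_right _ hW

end Cfsg.Agent.H417.EP

private theorem dce_fbafb7a9e94f : _root_.True := by
  try have : _root_.True := by simp only [_root_.Cfsg.Agent.H417.EP.tr.eq_1]
  exact _root_.True.intro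
end

-- part: H417/EP/AdmSyl
section
set_option linter.all false
open scoped Cfsg.Agent.FastGrp

/-!
# Admissible subgroups and Sylow subgroups (helper417)
-/

set_option autoImplicit false

namespace Cfsg.Agent.H417.EP

open Subgroup MulAction
open Cfsg.Agent.H284

variable {L : Type*} [Group L] {K : Subgroup L}

/-- An admissible subgroup is self-normalising. -/
theorem Adm.normalizer_le (hK : Adm K) {g : L} (hg : ∀ x ∈ K, g * x * g⁻¹ ∈ K) : g ∈ K :=
  hK.norm K le_rfl hK.ne_bot (fun φ y _ => (φ y).2) g hg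

/-- If the `r`-elements of the admissible `K` form a subgroup `R ≠ 1`, then `R` is a Sylow subgroup with normaliser
`K`. -/
theorem Adm.sylow [Finite L] (hK : Adm K) {r : ℕ} (hr : r.Prime) {R : Subgroup L}
    (hR : ∀ y, y ∈ R ↔ y ∈ K ∧ ∃ k : ℕ, y ^ (r ^ k) = 1) (hne : R ≠ ⊥) :
    ∃ P : Sylow r L, (P : Subgroup L) = R ∧ normalizer (R : Set L) = K := by
  have hRK : R ≤ K := fun y hy => ((hR y).1 hy).1
  have hRp : IsPGroup r R := by
    rintro ⟨y, hy⟩
    obtain ⟨_, k, hk⟩ := (hR y).1 hy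
    exact ⟨k, Subtype.ext hk⟩
  have hch : ∀ φ : MulAut K, ∀ y : K, (y : L) ∈ R → ((φ y : K) : L) ∈ R := by
    intro φ y hy
    obtain ⟨_, k, hk⟩ := (hR y).1 hy
    refine (hR _).2 ⟨(φ y).2, k, ?_⟩
    have h1 : y ^ (r ^ k) = 1 := Subtype.ext hk
    rw [← Subgroup.coe_pow, ← map_pow, h1, map_one, Subgroup.coe_one]
  obtain ⟨P, hP⟩ := hRp.exists_le_sylow
  refine ⟨P, ?_, ?_⟩
  · by_contra hcon
    obtain ⟨y, hyP, hyR, hyn⟩ := exists_norm_lt hr P.2 hP hcon
    apply hyR
    obtain ⟨k, hk⟩ := P.2 ⟨y, hyP⟩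
    exact (hR y).2 ⟨hK.norm R hRK hne hch y hyn, k, Subtype.ext_iff.1 hk⟩
  · apply le_antisymm
    · intro g hg
      exact hK.norm R hRK hne hch g fun x hx => (mem_normalizer_iff.1 hg x).1 hx
    · intro g hg
      rw [mem_normalizer_iff]
      intro x
      constructor
      · intro hx
        obtain ⟨h1, k, hk⟩ := (hR x).1 hx
        refine (hR _).2 ⟨K.mul_mem (K.mul_mem hg h1) (K.inv_mem hg), k, ?_⟩
        rw [conj_pow, hk, mul_one, mul_inv_cancel]
      · intro hx
        obtain ⟨h1, k, hk⟩ := (hR _).1 hx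
        have h2 : x = g⁻¹ * (g * x * g⁻¹) * g := by group
        refine (hR x).2 ⟨?_, k, ?_⟩
        · rw [h2]
          exact K.mul_mem (K.mul_mem (K.inv_mem hg) h1) hg
        · rw [conj_pow, mul_inv_eq_one, mul_eq_left] at hk
          exact hk

/-- The index of `K` is the number of Sylow subgroups. -/
theorem Adm.card_sylow [Finite L] (hK : Adm K) {r : ℕ} (hr : r.Prime) {R : Subgroup L}
    (hR : ∀ y, y ∈ R ↔ y ∈ K ∧ ∃ k : ℕ, y ^ (r ^ k) = 1) (hne : R ≠ ⊥) : Nat.card (Sylow r L) = K.index := by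
  have : Fact r.Prime := ⟨hr⟩
  obtain ⟨P, hP, hn⟩ := hK.sylow hr hR hne
  rw [P.card_eq_index_normalizer]
  have h1 : normalizer ((P : Subgroup L) : Set L) = K := by rw [hP]; exact hn
  exact congrArg _ h1

theorem Adm.modEq [Finite L] (hK : Adm K) {r : ℕ} (hr : r.Prime) {R : Subgroup L}
    (hR : ∀ y, y ∈ R ↔ y ∈ K ∧ ∃ k : ℕ, y ^ (r ^ k) = 1) (hne : R ≠ ⊥) : K.index ≡ 1 [MOD r] := by
  have : Fact r.Prime := ⟨hr⟩
  rw [← hK.card_sylow hr hR hne]
  exact card_sylow_modEq_one r L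

/-- An admissible subgroup of a non-abelian simple group is not abelian. -/
theorem Adm.not_comm [Finite L] [IsSimpleGroup L] (hna : ∃ a b : L, a * b ≠ b * a) (hK : Adm K)
    (hc : ∀ a ∈ K, ∀ b ∈ K, a * b = b * a) : False := by
  have h1 : ∃ r : ℕ, r.Prime ∧ r ∣ Nat.card K := by
    apply Nat.exists_prime_and_dvd
    intro h2
    exact hK.ne_bot ((Subgroup.card_eq_one).1 h2)
  obtain ⟨r, hr, hdvd⟩ := h1
  have : Fact r.Prime := ⟨hr⟩
  let R : Subgroup L :=
    { carrier := {y | y ∈ K ∧ ∃ k : ℕ, y ^ (r ^ k) = 1}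
      one_mem' := ⟨one_mem _, 0, one_pow _⟩
      mul_mem' := by
        rintro a b ⟨ha, k, hk⟩ ⟨hb, l, hl⟩
        refine ⟨mul_mem ha hb, k + l, ?_⟩
        rw [(show Commute a b from hc a ha b hb).mul_pow, pow_add, pow_mul, hk, one_pow, one_mul, mul_comm (r ^ k),
          pow_mul, hl, one_pow]
      inv_mem' := by
        rintro a ⟨ha, k, hk⟩
        exact ⟨inv_mem ha, k, by rw [inv_pow, hk, inv_one]⟩ }
  have hR : ∀ y, y ∈ R ↔ y ∈ K ∧ ∃ k : ℕ, y ^ (r ^ k) = 1 := fun y => Iff.rfl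
  have hne : R ≠ ⊥ := by
    intro e
    obtain ⟨y, hy⟩ := exists_prime_orderOf_dvd_card' r hdvd
    have h2 : (y : L) ∈ R := by
      refine (hR _).2 ⟨y.2, 1, ?_⟩
      rw [pow_one, ← hy, ← Subgroup.orderOf_coe, pow_orderOf_eq_one]
    rw [e, mem_bot] at h2
    have h3 : y = 1 := Subtype.ext h2
    rw [h3, orderOf_one] at hy
    exact hr.one_lt.ne hy
  obtain ⟨P, hP, hn⟩ := hK.sylow hr hR hne
  have hPc : normalizer ((P : Subgroup L) : Set L) ≤ centralizer ((P : Subgroup L) : Set L) := by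
    rw [hP, hn]
    intro g hg
    rw [mem_centralizer_iff]
    intro y hy
    exact hc _ ((hR y).1 hy).1 _ hg
  have h4 := MonoidHom.ker_transferSylow_isComplement' P hPc
  rcases (inferInstance : (MonoidHom.transferSylow P hPc).ker.Normal).eq_bot_or_eq_top with h5 | h5
  · rw [h5] at h4
    have h6 := Subgroup.isComplement'_bot_left.1 h4
    obtain ⟨a, b, hab⟩ := hna
    apply hab
    refine hc a ?_ b ?_
    · have : a ∈ (P : Subgroup L) := by rw [h6]; exact mem_top a
      rw [hP] at this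
      exact ((hR a).1 this).1
    · have : b ∈ (P : Subgroup L) := by rw [h6]; exact mem_top b
      rw [hP] at this
      exact ((hR b).1 this).1
  · rw [h5] at h4
    have h6 := Subgroup.isComplement'_top_left.1 h4
    exact hne (by rw [← hP, h6])

/-- the `r`-elements of `K` if there are few of them -/
theorem exists_sylow_of_card [Finite L] {X : Type*} [Group X] (e : K ≃* X) {r k m : ℕ} (hr : r.Prime)
    (hcard : Nat.card X = r ^ k * m) (hm : ¬ r ∣ m) (hk : k ≠ 0) (hle : {y : X | y ^ (r ^ k) = 1}.ncard ≤ r ^ k) :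
    ∃ R : Subgroup L, (∀ y, y ∈ R ↔ y ∈ K ∧ ∃ k : ℕ, y ^ (r ^ k) = 1) ∧ R ≠ ⊥ ∧ Nat.card R = r ^ k := by
  have : Fact r.Prime := ⟨hr⟩
  have : Finite X := Finite.of_equiv _ e.toEquiv
  have hm0 : m ≠ 0 := fun e => hm (e ▸ dvd_zero r)
  have hfac : (Nat.card X).factorization r = k := by
    rw [hcard, Nat.factorization_mul (pow_ne_zero _ hr.ne_zero) hm0, hr.factorization_pow, Finsupp.add_apply,
      Finsupp.single_eq_same, Nat.factorization_eq_zero_of_not_dvd hm, add_zero]
  obtain ⟨P⟩ : Nonempty (Sylow r X) := inferInstance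
  have hPc : Nat.card P = r ^ k := by rw [P.card_eq_multiplicity, hfac]
  have hPow : ∀ y ∈ (P : Subgroup X), y ^ (r ^ k) = 1 := by
    intro y hy
    have h1 := Subgroup.orderOf_dvd_natCard (P : Subgroup X) hy
    have h2 : Nat.card (P : Subgroup X) = r ^ k := hPc
    rw [h2] at h1
    exact orderOf_dvd_iff_pow_eq_one.1 h1
  have hPs : (P : Set X) = {y : X | y ^ (r ^ k) = 1} := by
    apply Set.eq_of_subset_of_ncard_le
    · intro y hy
      exact hPow y hy
    · refine hle.trans ?_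
      rw [← hPc]
      exact le_of_eq rfl
    · exact Set.toFinite _
  have hPm : ∀ y : X, (∃ l : ℕ, y ^ (r ^ l) = 1) → y ∈ P := by
    rintro y ⟨l, hl⟩
    have h1 : y ^ (r ^ k) = 1 := by
      have h2 : orderOf y ∣ r ^ l := orderOf_dvd_of_pow_eq_one hl
      obtain ⟨j, _, hj⟩ := (Nat.dvd_prime_pow hr).1 h2
      have h3 : r ^ j ∣ Nat.card X := hj ▸ orderOf_dvd_natCard y
      have h4 : j ≤ k := by
        rw [← hfac]
        exact (hr.pow_dvd_iff_le_factorization Nat.card_pos.ne').1 h3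
      rw [← orderOf_dvd_iff_pow_eq_one, hj]
      exact pow_dvd_pow r h4
    have h2 : y ∈ (P : Set X) := by rw [hPs]; exact h1
    exact h2
  refine ⟨((P : Subgroup X).comap e.toMonoidHom).map K.subtype, ?_, ?_, ?_⟩
  · intro y
    constructor
    · rintro ⟨z, hz, rfl⟩
      refine ⟨z.2, k, ?_⟩
      have h2 : e z ^ (r ^ k) = 1 := hPow _ hz
      rw [← map_pow, map_eq_one_iff e e.injective] at h2
      exact Subtype.ext_iff.1 h2
    · rintro ⟨hy, l, hl⟩
      refine ⟨⟨y, hy⟩, ?_, rfl⟩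
      apply hPm
      refine ⟨l, ?_⟩
      have h2 : (⟨y, hy⟩ : K) ^ (r ^ l) = 1 := Subtype.ext hl
      show e ⟨y, hy⟩ ^ (r ^ l) = 1
      rw [← map_pow, h2, map_one]
  · intro e1
    have h1 : Nat.card (((P : Subgroup X).comap e.toMonoidHom).map K.subtype) = r ^ k := by
      rw [← hPc]
      exact Nat.card_congr (((Subgroup.equivMapOfInjective _ _ K.subtype_injective).symm.toEquiv).trans
        (Equiv.subtypeEquiv e.toEquiv fun _ => Iff.rfl))
    rw [e1, Subgroup.card_bot] at h1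
    exact hk (by
      by_contra hk0
      have := Nat.one_lt_pow hk0 hr.one_lt
      omega)
  · rw [← hPc]
    exact Nat.card_congr (((Subgroup.equivMapOfInjective _ _ K.subtype_injective).symm.toEquiv).trans
      (Equiv.subtypeEquiv e.toEquiv fun _ => Iff.rfl))

end Cfsg.Agent.H417.EP
end

-- part: H417/EP/ElevenWeight
section
set_option linter.all false
open scoped Cfsg.Agent.FastGrp

-- part: H417/EP/ElevenCount
section
/-!
# The numbers of elements of orders 2, 3, 5 in `PSL₂(11)` (helper417)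
-/

set_option autoImplicit false

namespace Cfsg.Agent.H417.EP.Eleven

open Matrix
open Cfsg.Agent.H579.ElevenMat
open Cfsg.Agent.ClassicalGeometry.AutPSL.Root
open Cfsg.Agent.ClassicalGeometry.AutPSL.Auto
open Cfsg.Agent.ClassicalGeometry.AutPSL.Main

/-- the non-trivial elements of order dividing `n` -/
def D (G : Type*) [Group G] (n : ℕ) : Set G := {x | x ≠ 1 ∧ x ^ n = 1}

theorem trc (t : ZMod 11) (C : ZMod 11 → Prop) [DecidablePred C] :
    {A : S | A 0 0 + A 1 1 = t ∧ C (A 0 1)}.ncard ≤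
      (Finset.univ.filter (fun p : ZMod 11 × ZMod 11 × ZMod 11 =>
        p.1 * (t - p.1) - p.2.1 * p.2.2 = 1 ∧ C p.2.1)).card := by
  rw [← Set.ncard_coe_finset]
  refine Set.ncard_le_ncard_of_injOn (fun A : S => (A 0 0, A 0 1, A 1 0)) ?_ ?_ (Finset.finite_toSet _)
  · rintro A ⟨ht, hC⟩
    have hd := A.det_coe
    rw [Matrix.det_fin_two] at hd
    rw [Finset.mem_coe, Finset.mem_filter]
    refine ⟨Finset.mem_univ _, ?_, hC⟩
    show A 0 0 * (t - A 0 0) - A 0 1 * A 1 0 = 1
    rw [← ht]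
    linear_combination hd
  · rintro A ⟨ht, _⟩ B ⟨ht', _⟩ e
    simp only [Prod.mk.injEq] at e
    obtain ⟨e1, e2, e3⟩ := e
    have e4 : A 1 1 = B 1 1 := by
      have : A 1 1 = t - A 0 0 := by rw [← ht]; ring
      rw [this, ← ht', e1]
      ring
    apply Subtype.ext
    ext i j
    fin_cases i <;> fin_cases j
    · exact e1
    · exact e2
    · exact e3
    · exact e4

theorem scalar_iff (A : S) : pr A = 1 ↔ A 0 1 = 0 ∧ A 1 0 = 0 ∧ A 0 0 = A 1 1 := by
  rw [pr_eq_one_iff, Matrix.SpecialLinearGroup.mem_center_iff]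
  constructor
  · rintro ⟨r, -, h⟩
    refine ⟨?_, ?_, ?_⟩
    · have := congrFun (congrFun h 0) 1
      simpa using this.symm
    · have := congrFun (congrFun h 1) 0
      simpa using this.symm
    · have h0 := congrFun (congrFun h 0) 0
      have h1 := congrFun (congrFun h 1) 1
      simp at h0 h1
      rw [← h0, ← h1]
  · rintro ⟨h1, h2, h3⟩
    refine ⟨A 0 0, ?_, ?_⟩
    · have hd := A.det_coe
      rw [det_fin_two] at hd
      rw [h1, ← h3] at hd
      simp only [Fintype.card_fin]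
      rw [pow_two]
      linear_combination hd
    · ext i j
      fin_cases i <;> fin_cases j
      · simp
      · simpa using h1.symm
      · simpa using h2.symm
      · simpa using h3

theorem pr_neg (A : S) : pr (-A) = pr A := by
  have h1 : pr (-1 : S) = 1 := by
    rw [scalar_iff]
    refine ⟨?_, ?_, ?_⟩ <;> simp
  have h2 : -A = (-1) * A := by rw [neg_mul, one_mul]
  rw [h2, map_mul, h1, one_mul]

theorem dec_two : ∀ a b c : ZMod 11, a * (0 - a) - b * c = 1 → b ≠ 0 := by decide +kernel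

theorem dec_sgn : ∀ b : ZMod 11, b ≠ 0 → b.val ≤ 5 ∨ (-b).val ≤ 5 := by decide +kernel

theorem lift_two {x : PS} (hx : x ∈ D PS 2) : ∃ A : S, (A 0 0 + A 1 1 = 0 ∧ (A 0 1).val ≤ 5) ∧ pr A = x := by
  obtain ⟨h1, h2⟩ := hx
  obtain ⟨A, rfl⟩ := pr_surjective x
  have hd := A.det_coe
  rw [Matrix.det_fin_two] at hd
  have ht : A 0 0 + A 1 1 = 0 := by
    by_contra ht
    apply h1
    rw [← map_pow, scalar_iff] at h2
    have m : ∀ i j, (A ^ 2) i j = (A.1 * A.1) i j := by
      intro i j; rw [Matrix.SpecialLinearGroup.coe_pow, pow_two]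
    rw [m, m, m, m] at h2
    simp only [Matrix.mul_apply, Fin.sum_univ_two] at h2
    obtain ⟨q1, q2, q3⟩ := h2
    rw [scalar_iff]
    refine ⟨?_, ?_, ?_⟩
    · have : (A 0 0 + A 1 1) * A 0 1 = 0 := by linear_combination q1
      exact (mul_eq_zero.1 this).resolve_left ht
    · have : (A 0 0 + A 1 1) * A 1 0 = 0 := by linear_combination q2
      exact (mul_eq_zero.1 this).resolve_left ht
    · have : (A 0 0 + A 1 1) * (A 0 0 - A 1 1) = 0 := by linear_combination q3
      exact sub_eq_zero.1 ((mul_eq_zero.1 this).resolve_left ht)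
  have hb : A 0 1 ≠ 0 := by
    refine dec_two (A 0 0) (A 0 1) (A 1 0) ?_
    linear_combination hd - A 0 0 * ht
  rcases dec_sgn _ hb with h | h
  · exact ⟨A, ⟨ht, h⟩, rfl⟩
  · refine ⟨-A, ⟨?_, ?_⟩, pr_neg A⟩
    · show (-A.1) 0 0 + (-A.1) 1 1 = 0
      rw [Matrix.neg_apply, Matrix.neg_apply]
      linear_combination -ht
    · show ((-A.1) 0 1).val ≤ 5
      rw [Matrix.neg_apply]
      exact h

theorem dec_three : ∀ t : ZMod 11, t ^ 2 - 1 = 0 → t = 1 ∨ t = -1 := by decide +kernel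

theorem lift_three {x : PS} (hx : x ∈ D PS 3) : ∃ A : S, (A 0 0 + A 1 1 = 1 ∧ True) ∧ pr A = x := by
  obtain ⟨h1, h3⟩ := hx
  obtain ⟨A, rfl⟩ := pr_surjective x
  have hd := A.det_coe
  rw [Matrix.det_fin_two] at hd
  have ht : (A 0 0 + A 1 1) ^ 2 - 1 = 0 := by
    by_contra ht
    apply h1
    rw [← map_pow, scalar_iff] at h3
    have m : ∀ i j, (A ^ 3) i j = (A.1 * A.1 * A.1) i j := by
      intro i j; rw [Matrix.SpecialLinearGroup.coe_pow, pow_succ, pow_two]
    rw [m, m, m, m] at h3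
    simp only [Matrix.mul_apply, Fin.sum_univ_two] at h3
    obtain ⟨q1, q2, q3⟩ := h3
    rw [scalar_iff]
    refine ⟨?_, ?_, ?_⟩
    · have : ((A 0 0 + A 1 1) ^ 2 - 1) * A 0 1 = 0 := by linear_combination q1 + A 0 1 * hd
      exact (mul_eq_zero.1 this).resolve_left ht
    · have : ((A 0 0 + A 1 1) ^ 2 - 1) * A 1 0 = 0 := by linear_combination q2 + A 1 0 * hd
      exact (mul_eq_zero.1 this).resolve_left ht
    · have : ((A 0 0 + A 1 1) ^ 2 - 1) * (A 0 0 - A 1 1) = 0 := by
        linear_combination q3 + (A 0 0 - A 1 1) * hd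
      exact sub_eq_zero.1 ((mul_eq_zero.1 this).resolve_left ht)
  rcases dec_three _ ht with h | h
  · exact ⟨A, ⟨h, trivial⟩, rfl⟩
  · refine ⟨-A, ⟨?_, trivial⟩, pr_neg A⟩
    show (-A.1) 0 0 + (-A.1) 1 1 = 1
    rw [Matrix.neg_apply, Matrix.neg_apply]
    linear_combination -h

theorem lift_five {x : PS} (hx : x ∈ D PS 5) : ∃ A : S, (A 0 0 + A 1 1 = 3 ∨ A 0 0 + A 1 1 = 7) ∧ pr A = x := by
  obtain ⟨u, rfl, hu⟩ := exists_lift hx.2
  refine ⟨u, trace_eq hu ?_, rfl⟩
  rintro rfl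
  exact hx.1 (map_one _)

theorem two_le : (D PS 2).ncard ≤ 55 := by
  have h1 : D PS 2 ⊆ pr '' {A : S | A 0 0 + A 1 1 = 0 ∧ (A 0 1).val ≤ 5} := fun x hx => by
    obtain ⟨A, hA, e⟩ := lift_two hx
    exact ⟨A, hA, e⟩
  refine (Set.ncard_le_ncard h1 (Set.toFinite _)).trans ((Set.ncard_image_le (Set.toFinite _)).trans ?_)
  refine (trc 0 (fun b => b.val ≤ 5)).trans ?_
  decide +kernel

theorem three_le : (D PS 3).ncard ≤ 110 := by
  have h1 : D PS 3 ⊆ pr '' {A : S | A 0 0 + A 1 1 = 1 ∧ True} := fun x hx => by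
    obtain ⟨A, hA, e⟩ := lift_three hx
    exact ⟨A, hA, e⟩
  refine (Set.ncard_le_ncard h1 (Set.toFinite _)).trans ((Set.ncard_image_le (Set.toFinite _)).trans ?_)
  refine (trc 1 (fun _ => True)).trans ?_
  decide +kernel

theorem five_le : (D PS 5).ncard ≤ 264 := by
  have h1 : D PS 5 ⊆ pr '' ({A : S | A 0 0 + A 1 1 = 3 ∧ True} ∪ {A : S | A 0 0 + A 1 1 = 7 ∧ True}) := fun x hx => by
    obtain ⟨A, hA, e⟩ := lift_five hx
    exact ⟨A, hA.imp (fun h => ⟨h, trivial⟩) (fun h => ⟨h, trivial⟩), e⟩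
  refine (Set.ncard_le_ncard h1 (Set.toFinite _)).trans ((Set.ncard_image_le (Set.toFinite _)).trans ?_)
  refine (Set.ncard_union_le _ _).trans ?_
  have h3 : {A : S | A 0 0 + A 1 1 = 3 ∧ True}.ncard ≤ 132 := (trc 3 (fun _ => True)).trans (by decide +kernel)
  have h7 : {A : S | A 0 0 + A 1 1 = 7 ∧ True}.ncard ≤ 132 := (trc 7 (fun _ => True)).trans (by decide +kernel)
  omega

end Cfsg.Agent.H417.EP.Eleven
end

-- part: H417/EP/ElevenWeight
section
/-!
# The weight on `PSL₂(11)` (helper417)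
-/

set_option autoImplicit false

namespace Cfsg.Agent.H417.EP.Eleven

open Cfsg.Agent.H579.ElevenMat
open Cfsg.Agent.ClassicalGeometry.AutPSL.Main

theorem card_filter_univ {α : Type*} [Fintype α] (p : α → Prop) [DecidablePred p] :
    (Finset.univ.filter p).card = {x | p x}.ncard := by
  rw [← Set.ncard_coe_finset]
  congr 1
  ext t
  simp

/-- 16 for involutions, 5 for elements of order 3, 2 for elements of order 5 -/
def wt {G : Type*} [Group G] [DecidableEq G] (x : G) : ℕ :=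
  if x = 1 then 0 else if x ^ 2 = 1 then 16 else if x ^ 3 = 1 then 5 else if x ^ 5 = 1 then 2 else 0

theorem wt_equiv {G H : Type*} [Group G] [Group H] [DecidableEq G] [DecidableEq H] (f : G →* H)
    (hf : Function.Injective f) (x : G) : wt (f x) = wt x := by
  unfold wt
  simp only [← map_pow, map_eq_one_iff f hf]

theorem sum_iso {L : Type*} [Group L] [Fintype L] [DecidableEq L] (K : Subgroup L) [DecidablePred (· ∈ K)] {X : Type*}
    [Group X] [Fintype X] [DecidableEq X] (e : K ≃* X) :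
    ∑ t : L, (if t ∈ K then wt t else 0) = ∑ x : X, wt x := by
  rw [← Finset.sum_filter, ← Finset.sum_subtype_eq_sum_filter, ← e.toEquiv.sum_comp]
  refine Finset.sum_nbij' (fun t => ⟨t.1, by simp⟩) (fun t => ⟨t.1, by simp⟩) ?_ ?_ ?_ ?_ ?_
  · intro t _; exact Finset.mem_univ _
  · intro t _; simp
  · intro t _; rfl
  · intro t _; rfl
  · rintro ⟨t, ht⟩ _
    have h1 := wt_equiv e.toMonoidHom e.injective ⟨t, ht⟩
    have h2 := wt_equiv K.subtype K.subtype_injective ⟨t, ht⟩
    exact h2.trans h1.symm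

theorem sum_le_gen {G : Type*} [Group G] [Fintype G] [DecidableEq G] :
    ∑ t : G, wt t ≤ (D G 2).ncard * 16 + ((D G 3).ncard * 5 + (D G 5).ncard * 2) := by
  classical
  have h1 : ∀ t : G, wt t ≤ (if t ∈ D G 2 then 16 else 0) + ((if t ∈ D G 3 then 5 else 0) +
      (if t ∈ D G 5 then 2 else 0)) := by
    intro t
    unfold wt
    by_cases h0 : t = 1
    · rw [if_pos h0]; exact Nat.zero_le _
    · rw [if_neg h0]
      by_cases h2 : t ^ 2 = 1
      · have : t ∈ D G 2 := ⟨h0, h2⟩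
        rw [if_pos h2, if_pos this]
        exact Nat.le_add_right _ _
      · rw [if_neg h2]
        by_cases h3 : t ^ 3 = 1
        · have : t ∈ D G 3 := ⟨h0, h3⟩
          rw [if_pos h3, if_pos this]
          omega
        · rw [if_neg h3]
          by_cases h5 : t ^ 5 = 1
          · have : t ∈ D G 5 := ⟨h0, h5⟩
            rw [if_pos h5, if_pos this]
            omega
          · rw [if_neg h5]; exact Nat.zero_le _
  refine (Finset.sum_le_sum fun t _ => h1 t).trans ?_
  rw [Finset.sum_add_distrib, Finset.sum_add_distrib]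
  have h2 : ∀ (n k : ℕ), ∑ t : G, (if t ∈ D G n then k else 0) = (D G n).ncard * k := by
    intro n k
    rw [← Finset.sum_filter, Finset.sum_const, smul_eq_mul, card_filter_univ]
    rfl
  rw [h2, h2, h2]

open Classical in
theorem sum_le : ∑ t : PS, wt t ≤ 1958 := by
  refine sum_le_gen.trans ?_
  have := two_le
  have := three_le
  have := five_le
  omega

theorem d5 : ∑ x : DihedralGroup 5, wt x = 88 := by decide +kernel
theorem d6 : ∑ x : DihedralGroup 6, wt x = 122 := by decide +kernel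
theorem a4 : ∑ x : alternatingGroup (Fin 4), wt x = 88 := by decide +kernel
private theorem sum_wt {G : Type*} [Group G] [Fintype G] [DecidableEq G] :
    ∑ x : G, wt x = (Finset.univ.filter fun x : G => x ≠ 1 ∧ x ^ 2 = 1).card * 16 +
      (Finset.univ.filter fun x : G => x ^ 2 ≠ 1 ∧ x ^ 3 = 1).card * 5 +
      (Finset.univ.filter fun x : G => x ^ 2 ≠ 1 ∧ x ^ 3 ≠ 1 ∧ x ^ 5 = 1).card * 2 := by
  rw [Finset.card_filter, Finset.card_filter, Finset.card_filter, Finset.sum_mul, Finset.sum_mul, Finset.sum_mul,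
    ← Finset.sum_add_distrib, ← Finset.sum_add_distrib]
  refine Finset.sum_congr rfl fun x _ => ?_
  delta wt
  by_cases h1 : x = 1
  · subst h1; simp
  · by_cases h2 : x ^ 2 = 1 <;> by_cases h3 : x ^ 3 = 1 <;> by_cases h5 : x ^ 5 = 1 <;> simp [h1, h2, h3, h5]

theorem a5 : ∑ x : alternatingGroup (Fin 5), wt x = 388 := by
  have h1 : (Finset.univ.filter fun x : alternatingGroup (Fin 5) => x ≠ 1 ∧ x ^ 2 = 1).card = 15 := by
    (set_option synthInstance.maxSize 9000 in open scoped Cfsg.Agent.Lib.FastPerm in decide +kernel)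
  have h2 : (Finset.univ.filter fun x : alternatingGroup (Fin 5) => x ^ 2 ≠ 1 ∧ x ^ 3 = 1).card = 20 := by
    (set_option synthInstance.maxSize 9000 in open scoped Cfsg.Agent.Lib.FastPerm in decide +kernel)
  have h3 : (Finset.univ.filter fun x : alternatingGroup (Fin 5) => x ^ 2 ≠ 1 ∧ x ^ 3 ≠ 1 ∧ x ^ 5 = 1).card = 24 := by
    (set_option synthInstance.maxSize 9000 in open scoped Cfsg.Agent.Lib.FastPerm in decide +kernel)
  rw [sum_wt, h1, h2, h3]

/-- the pairs `(a, b)` with orders 2, 3 and product of order 5 -/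
def pairs (G : Type*) [Group G] : Set (G × G) := {p | p.1 ∈ D G 2 ∧ p.2 ∈ D G 3 ∧ p.1 * p.2 ∈ D G 5}

theorem invols_a5 :
    ((Finset.univ : Finset (alternatingGroup (Fin 5))).filter (fun a => a ≠ 1 ∧ a ^ 2 = 1)).card = 15 := by
  (set_option synthInstance.maxSize 9000 in open scoped Cfsg.Agent.Lib.FastPerm in decide +kernel)

/-- an involution of `A₅` -/
def invol_a5 : alternatingGroup (Fin 5) :=
  ⟨c[(0 : Fin 5), 1] * c[(2 : Fin 5), 3], Equiv.Perm.mem_alternatingGroup.2 (by decide +kernel)⟩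

theorem conj_a5 : ∀ a : alternatingGroup (Fin 5), a ≠ 1 → a ^ 2 = 1 →
    ∃ g : alternatingGroup (Fin 5), g * invol_a5 = a * g := by
  (set_option synthInstance.maxSize 9000 in open scoped Cfsg.Agent.Lib.FastPerm in decide +kernel)

theorem fiber_invol : ((Finset.univ : Finset (alternatingGroup (Fin 5))).filter
    (fun b => b ≠ 1 ∧ b ^ 3 = 1 ∧ invol_a5 * b ≠ 1 ∧ (invol_a5 * b) ^ 5 = 1)).card = 8 := by
  (set_option synthInstance.maxSize 9000 in open scoped Cfsg.Agent.Lib.FastPerm in decide +kernel)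

theorem fiber_a5 (a : alternatingGroup (Fin 5)) (h1 : a ≠ 1) (h2 : a ^ 2 = 1) :
    ((Finset.univ : Finset (alternatingGroup (Fin 5))).filter
      (fun b => b ≠ 1 ∧ b ^ 3 = 1 ∧ a * b ≠ 1 ∧ (a * b) ^ 5 = 1)).card = 8 := by
  obtain ⟨g, hg⟩ := conj_a5 a h1 h2
  rw [← fiber_invol]
  have he : (MulAut.conj g).symm a = invol_a5 := by
    rw [MulAut.conj_symm_apply, mul_assoc, ← hg, inv_mul_cancel_left]
  refine Finset.card_equiv (MulAut.conj g).symm.toEquiv fun b => ?_
  rw [Finset.mem_filter, Finset.mem_filter, ← he]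
  show _ ↔ _ ∧ (MulAut.conj g).symm b ≠ 1 ∧ ((MulAut.conj g).symm b) ^ 3 = 1 ∧
    (MulAut.conj g).symm a * (MulAut.conj g).symm b ≠ 1 ∧
    ((MulAut.conj g).symm a * (MulAut.conj g).symm b) ^ 5 = 1
  rw [← map_mul, ← map_pow, ← map_pow]
  simp only [ne_eq, EmbeddingLike.map_eq_one_iff, Finset.mem_univ, true_and]

theorem pairs_a5 : (pairs (alternatingGroup (Fin 5))).ncard = 120 := by
  have h1 : (Finset.univ.filter (fun p : alternatingGroup (Fin 5) × alternatingGroup (Fin 5) =>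
    p.1 ≠ 1 ∧ p.1 ^ 2 = 1 ∧ p.2 ≠ 1 ∧ p.2 ^ 3 = 1 ∧ p.1 * p.2 ≠ 1 ∧ (p.1 * p.2) ^ 5 = 1)).card = 120 := by
    rw [Finset.card_filter, Fintype.sum_prod_type]
    have h2 : ∀ a : alternatingGroup (Fin 5), (∑ b : alternatingGroup (Fin 5),
        if a ≠ 1 ∧ a ^ 2 = 1 ∧ b ≠ 1 ∧ b ^ 3 = 1 ∧ a * b ≠ 1 ∧ (a * b) ^ 5 = 1 then 1 else 0) =
        if a ≠ 1 ∧ a ^ 2 = 1 then 8 else 0 := by
      intro a
      by_cases ha : a ≠ 1 ∧ a ^ 2 = 1
      · rw [if_pos ha, ← fiber_a5 a ha.1 ha.2, Finset.card_filter]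
        refine Finset.sum_congr rfl fun b _ => ?_
        refine if_congr ⟨fun h => h.2.2, fun h => ⟨ha.1, ha.2, h⟩⟩ rfl rfl
      · rw [if_neg ha]
        refine Finset.sum_eq_zero fun b _ => if_neg fun h => ha ⟨h.1, h.2.1⟩
    refine (Finset.sum_congr rfl fun a _ => h2 a).trans ?_
    rw [← Finset.sum_filter, Finset.sum_const, invols_a5, smul_eq_mul]
  rw [← h1, card_filter_univ]
  refine congrArg Set.ncard (Set.ext fun p => ?_)
  constructor
  · rintro ⟨⟨a, b⟩, ⟨c, d⟩, f, g⟩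
    exact ⟨a, b, c, d, f, g⟩
  · rintro ⟨a, b, c, d, f, g⟩
    exact ⟨⟨a, b⟩, ⟨c, d⟩, f, g⟩

/-- a subgroup of `A₅` with elements of orders 2, 3, 5 is everything -/
theorem gen_a5 {X : Type*} [Group X] (e : X ≃* alternatingGroup (Fin 5)) {p : X × X} (hp : p ∈ pairs X)
    {H : Subgroup X} (h1 : p.1 ∈ H) (h2 : p.2 ∈ H) : H = ⊤ := by
  have hs : IsSimpleGroup (alternatingGroup (Fin 5)) := alternatingGroup.isSimpleGroup_five
  have hsX : IsSimpleGroup X := e.isSimpleGroup
  have hfin : Finite X := Finite.of_equiv _ e.symm.toEquiv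
  have hc : Nat.card X = 60 := by
    rw [Nat.card_congr e.toEquiv, Nat.card_eq_fintype_card]
    (set_option synthInstance.maxSize 9000 in open scoped Cfsg.Agent.Lib.FastPerm in decide +kernel)
  have ho : ∀ (y : X) (n : ℕ), n.Prime → y ∈ D X n → y ∈ H → n ∣ Nat.card H := by
    intro y n hn hy hyH
    have : Fact n.Prime := ⟨hn⟩
    rw [← orderOf_eq_prime hy.2 hy.1]
    exact Subgroup.orderOf_dvd_natCard H hyH
  have k2 := ho _ 2 Nat.prime_two hp.1 h1
  have k3 := ho _ 3 Nat.prime_three hp.2.1 h2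
  have k5 := ho _ 5 Nat.prime_five hp.2.2 (H.mul_mem h1 h2)
  have hmul := H.card_mul_index
  rw [hc] at hmul
  have h30 : 30 ∣ Nat.card H := by omega
  obtain ⟨k, hk⟩ := h30
  rw [hk] at hmul
  have hidx : H.index = 1 ∨ H.index = 2 := by
    have h3 : k * H.index = 2 := by nlinarith
    have h4 : H.index ∣ 2 := ⟨k, by rw [← h3, mul_comm]⟩
    exact (Nat.dvd_prime Nat.prime_two).1 h4
  rcases hidx with h | h
  · exact Subgroup.index_eq_one.1 h
  · have hn := Subgroup.normal_of_index_eq_two h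
    rcases hn.eq_bot_or_eq_top with h5 | h5
    · exfalso
      rw [h5, Subgroup.index_bot, hc] at h
      omega
    · exact h5

/-- `m` subgroups `A₅` have `120 m` pairs -/
theorem a5_le {L : Type*} [Group L] [Finite L] {u v : ℕ} (hu : (D L 2).ncard ≤ u) (hv : (D L 3).ncard ≤ v) :
    {K : Subgroup L | Nonempty (K ≃* alternatingGroup (Fin 5))}.ncard * 120 ≤ u * v := by
  classical
  have : Fintype L := Fintype.ofFinite L
  have : Fintype (Subgroup L) := Fintype.ofFinite _
  let 𝒦 : Finset (Subgroup L) := Finset.univ.filter fun K => Nonempty (K ≃* alternatingGroup (Fin 5))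
  let P : Subgroup L → Finset (L × L) := fun K =>
    Finset.univ.filter fun p => p ∈ pairs L ∧ p.1 ∈ K ∧ p.2 ∈ K
  have h𝒦 : {K : Subgroup L | Nonempty (K ≃* alternatingGroup (Fin 5))}.ncard = 𝒦.card := by
    rw [← Set.ncard_coe_finset]
    congr 1
    ext K
    simp [𝒦]
  have hPc : ∀ K ∈ 𝒦, (P K).card = 120 := by
    intro K hK
    obtain ⟨e⟩ := (Finset.mem_filter.1 hK).2
    rw [← pairs_a5, ← Set.ncard_coe_finset, Set.ncard_def, Set.ncard_def]
    refine congrArg _ ?_
    have hinj : Function.Injective (fun p : alternatingGroup (Fin 5) × alternatingGroup (Fin 5) =>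
        (((e.symm p.1 : K) : L), ((e.symm p.2 : K) : L))) := by
      intro p q h
      simp only [Prod.mk.injEq] at h
      exact Prod.ext (e.symm.injective (Subtype.ext h.1)) (e.symm.injective (Subtype.ext h.2))
    rw [← hinj.encard_image]
    congr 1
    have hf : ∀ (y : alternatingGroup (Fin 5)) (n : ℕ), ((e.symm y : K) : L) ∈ D L n ↔ y ∈ D _ n := by
      intro y n
      have h1 : ∀ z : alternatingGroup (Fin 5), ((e.symm z : K) : L) = 1 ↔ z = 1 := by
        intro z
        rw [OneMemClass.coe_eq_one]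
        exact map_eq_one_iff e.symm e.symm.injective
      unfold D
      rw [Set.mem_ofPred_eq, Set.mem_ofPred_eq, Ne, h1, ← Subgroup.coe_pow, ← map_pow, h1]
    ext p
    simp only [P, Finset.coe_filter, Finset.mem_univ, true_and, Set.mem_ofPred_eq, Set.mem_image]
    constructor
    · rintro ⟨hp, hp1, hp2⟩
      have e1 : ((e.symm (e ⟨p.1, hp1⟩) : K) : L) = p.1 := by rw [MulEquiv.symm_apply_apply]
      have e2 : ((e.symm (e ⟨p.2, hp2⟩) : K) : L) = p.2 := by rw [MulEquiv.symm_apply_apply]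
      refine ⟨(e ⟨p.1, hp1⟩, e ⟨p.2, hp2⟩), ⟨?_, ?_, ?_⟩, ?_⟩
      · show e ⟨p.1, hp1⟩ ∈ D _ 2
        rw [← hf, e1]; exact hp.1
      · show e ⟨p.2, hp2⟩ ∈ D _ 3
        rw [← hf, e2]; exact hp.2.1
      · show e ⟨p.1, hp1⟩ * e ⟨p.2, hp2⟩ ∈ D _ 5
        rw [← hf, map_mul, Subgroup.coe_mul, e1, e2]; exact hp.2.2
      · exact Prod.ext e1 e2
    · rintro ⟨q, ⟨h1, h2, h3⟩, rfl⟩
      refine ⟨⟨?_, ?_, ?_⟩, (e.symm q.1).2, (e.symm q.2).2⟩
      · exact (hf _ _).2 h1
      · exact (hf _ _).2 h2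
      · show ((e.symm q.1 : K) : L) * ((e.symm q.2 : K) : L) ∈ D L 5
        rw [← Subgroup.coe_mul, ← map_mul]
        exact (hf _ _).2 h3
  have hdis : ∀ K ∈ 𝒦, ∀ K' ∈ 𝒦, K ≠ K' → Disjoint (P K) (P K') := by
    intro K hK K' hK' hne
    rw [Finset.disjoint_left]
    intro p hp hp'
    apply hne
    obtain ⟨hp1, hp2, hp3⟩ := (Finset.mem_filter.1 hp).2
    obtain ⟨-, hp2', hp3'⟩ := (Finset.mem_filter.1 hp').2
    obtain ⟨e⟩ := (Finset.mem_filter.1 hK).2
    obtain ⟨e'⟩ := (Finset.mem_filter.1 hK').2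
    have key : ∀ {K K' : Subgroup L}, K ≃* alternatingGroup (Fin 5) → p.1 ∈ K → p.2 ∈ K → p.1 ∈ K' → p.2 ∈ K' →
        K ≤ K' := by
      intro K K' e a1 a2 b1 b2
      have h1 : K'.subgroupOf K = ⊤ := by
        refine gen_a5 e (p := (⟨p.1, a1⟩, ⟨p.2, a2⟩)) ⟨?_, ?_, ?_⟩ b1 b2
        · exact ⟨fun h => hp1.1.1 (Subtype.ext_iff.1 h), Subtype.ext hp1.1.2⟩
        · exact ⟨fun h => hp1.2.1.1 (Subtype.ext_iff.1 h), Subtype.ext hp1.2.1.2⟩
        · exact ⟨fun h => hp1.2.2.1 (Subtype.ext_iff.1 h), Subtype.ext hp1.2.2.2⟩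
      exact Subgroup.subgroupOf_eq_top.1 h1
    exact le_antisymm (key e hp2 hp3 hp2' hp3') (key e' hp2' hp3' hp2 hp3)
  have hcard := Finset.card_biUnion hdis
  rw [Finset.sum_congr rfl hPc, Finset.sum_const, smul_eq_mul] at hcard
  rw [h𝒦, ← hcard]
  have hsub : (𝒦.biUnion P) ⊆ (Finset.univ.filter (· ∈ D L 2)) ×ˢ (Finset.univ.filter (· ∈ D L 3)) := by
    intro p hp
    obtain ⟨K, -, hK⟩ := Finset.mem_biUnion.1 hp
    obtain ⟨hp1, -, -⟩ := (Finset.mem_filter.1 hK).2
    rw [Finset.mem_product, Finset.mem_filter, Finset.mem_filter]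
    exact ⟨⟨Finset.mem_univ _, hp1.1⟩, Finset.mem_univ _, hp1.2.1⟩
  refine (Finset.card_le_card hsub).trans ?_
  rw [Finset.card_product]
  have hD : ∀ n : ℕ, (Finset.univ.filter (· ∈ D L n)).card = (D L n).ncard := by
    intro n
    rw [card_filter_univ]
    rfl
  rw [hD, hD]
  exact Nat.mul_le_mul hu hv

end Cfsg.Agent.H417.EP.Eleven
end
end

-- part: H417/EP/ElevenAdm
section
set_option linter.all false
open scoped Cfsg.Agent.FastGrp

/-!
# The admissible subgroups of `PSL₂(11)` (helper417)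
-/

set_option autoImplicit false

namespace Cfsg.Agent.H417.EP.Eleven

open Subgroup
open Cfsg.Agent.H579.ElevenMat
open Cfsg.Agent.ClassicalGeometry.AutPSL.Root
open Cfsg.Agent.ClassicalGeometry.AutPSL.Auto
open Cfsg.Agent.ClassicalGeometry.AutPSL.Main

instance simple_PS : IsSimpleGroup PS :=
  Cfsg.Agent.TwoFusion.SLTwoFacts.isSimpleGroup_psl (by rw [ZMod.card]; norm_num)

theorem ncomm : ∃ a b : PS, a * b ≠ b * a := by
  let a : S := ⟨!![1, 1; 0, 1], by decide⟩
  let b : S := ⟨!![1, 0; 1, 1], by decide⟩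
  refine ⟨pr a, pr b, fun h => ?_⟩
  have h1 : pr ((b * a)⁻¹ * (a * b)) = 1 := by
    rw [map_mul, map_inv, map_mul, map_mul, h, inv_mul_cancel]
  rw [scalar_iff] at h1
  exact absurd h1 (by decide +kernel)

theorem index_of {K : Subgroup PS} {c d : ℕ} (hK : Nat.card K = c) (hc : c * d = 660) : K.index = d := by
  have h1 := K.card_mul_index
  rw [card_PS, hK, ← hc] at h1
  rcases Nat.eq_zero_or_pos c with h2 | h2
  · rw [h2] at hc; omega
  · exact Nat.eq_of_mul_eq_mul_left h2 h1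

theorem ne_top_of {K : Subgroup PS} (h : Adm K) (hc : Nat.card K = 660) : False := by
  apply h.ne_top
  apply Subgroup.eq_top_of_card_eq
  rw [hc, card_PS]

theorem norm_eleven (P : Sylow 11 PS) : Nat.card (normalizer (P : Set PS)) = 55 := by
  have hPc : Nat.card P = 11 := by
    rw [P.card_eq_multiplicity, card_PS]
    have : (660 : ℕ).factorization 11 = 1 := by
      rw [show (660 : ℕ) = 11 * 60 from rfl, Nat.factorization_mul (by norm_num) (by norm_num), Finsupp.add_apply,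
        Nat.Prime.factorization_self (by norm_num), Nat.factorization_eq_zero_of_not_dvd (by norm_num)]
    rw [this, pow_one]
  have h1 : Nat.card (Sylow 11 PS) ∣ P.index := P.card_dvd_index
  have h2 : P.index = 60 := index_of (c := 11) hPc (by norm_num)
  have h3 : Nat.card (Sylow 11 PS) ≡ 1 [MOD 11] := card_sylow_modEq_one 11 PS
  have h4 := P.card_eq_index_normalizer
  rw [h2] at h1
  have h5 : Nat.card (Sylow 11 PS) ≤ 60 := Nat.le_of_dvd (by norm_num) h1
  have h6 : Nat.card (Sylow 11 PS) = 1 ∨ Nat.card (Sylow 11 PS) = 12 := by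
    generalize Nat.card (Sylow 11 PS) = n at *
    interval_cases n <;> first | omega | (exfalso; revert h3; decide)
  rcases h6 with h6 | h6
  · exfalso
    rw [h6] at h4
    have h7 : normalizer ((P : Subgroup PS) : Set PS) = ⊤ := Subgroup.index_eq_one.1 h4.symm
    have h8 : (P : Subgroup PS).Normal := Subgroup.normalizer_eq_top_iff.1 h7
    rcases h8.eq_bot_or_eq_top with h9 | h9
    · have : Nat.card (P : Subgroup PS) = 11 := hPc
      rw [h9, Subgroup.card_bot] at this
      omega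
    · have : Nat.card (P : Subgroup PS) = 11 := hPc
      rw [h9, Subgroup.card_top, card_PS] at this
      omega
  · have h7 := (normalizer ((P : Subgroup PS) : Set PS)).card_mul_index
    have h8 : (normalizer ((P : Subgroup PS) : Set PS)).index = 12 := h4.symm.trans h6
    rw [h8, card_PS] at h7
    show Nat.card (normalizer ((P : Subgroup PS) : Set PS)) = 55
    omega

/-- the isomorphism types -/
def Ty (K : Subgroup PS) : Prop :=
  Nonempty (K ≃* DihedralGroup 5) ∨ Nonempty (K ≃* DihedralGroup 6) ∨ Nonempty (K ≃* alternatingGroup (Fin 4)) ∨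
    Nonempty (K ≃* alternatingGroup (Fin 5)) ∨ Nat.card K = 55

theorem comm_of_equiv {K : Subgroup PS} {X : Type*} [Group X] (e : K ≃* X) (hX : ∀ a b : X, a * b = b * a) :
    ∀ a ∈ K, ∀ b ∈ K, a * b = b * a := by
  intro a ha b hb
  have h1 : (⟨a, ha⟩ : K) * ⟨b, hb⟩ = ⟨b, hb⟩ * ⟨a, ha⟩ := by
    apply e.injective
    rw [map_mul, map_mul, hX]
  exact Subtype.ext_iff.1 h1

theorem comm_of_cyclic {K : Subgroup PS} (h : IsCyclic K) : ∀ a ∈ K, ∀ b ∈ K, a * b = b * a := by
  intro a ha b hb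
  have h1 : (⟨a, ha⟩ : K) * ⟨b, hb⟩ = ⟨b, hb⟩ * ⟨a, ha⟩ := h.isMulCommutative.is_comm.comm _ _
  exact Subtype.ext_iff.1 h1

theorem adm_ty {K : Subgroup PS} (hK : Adm K) : Ty K := by
  have hnc : ¬ ∀ a ∈ K, ∀ b ∈ K, a * b = b * a := hK.not_comm ncomm
  have hdvd : Nat.card K ∣ 660 := by rw [← card_PS]; exact Subgroup.card_subgroup_dvd_card K
  have hD : ∀ k : ℕ, (k ∣ 6 ∨ k ∣ 5) → Nonempty (K ≃* DihedralGroup k) → Ty K := by
    rintro k hk ⟨e⟩
    have hk' : k = 1 ∨ k = 2 ∨ k = 3 ∨ k = 5 ∨ k = 6 := by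
      rcases hk with h | h
      · have := Nat.le_of_dvd (by norm_num) h
        interval_cases k <;> omega
      · have := Nat.le_of_dvd (by norm_num) h
        interval_cases k <;> omega
    rcases hk' with rfl | rfl | rfl | rfl | rfl
    · exact absurd (comm_of_equiv e (by decide +kernel)) hnc
    · exact absurd (comm_of_equiv e (by decide +kernel)) hnc
    · exfalso
      obtain ⟨R, hR, hne, -⟩ := exists_sylow_of_card e (r := 3) (k := 1) (m := 2) Nat.prime_three
        (by rw [DihedralGroup.nat_card]; rfl) (by norm_num) one_ne_zero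
        (by rw [← card_filter_univ]; decide +kernel)
      have h1 := hK.modEq Nat.prime_three hR hne
      rw [index_of (c := 6) (d := 110) (by rw [Nat.card_congr e.toEquiv, DihedralGroup.nat_card]) (by norm_num)] at h1
      exact absurd h1 (by decide)
    · exact Or.inl ⟨e⟩
    · exact Or.inr (Or.inl ⟨e⟩)
  rcases Cfsg.Agent.S0799.result (F := ZMod 11) (q := 11) (ZMod.card 11) 11 K with
    ⟨k, hk, ⟨hc, -⟩ | h⟩ | ⟨P, K', hK', ⟨e⟩⟩ | ⟨⟨e⟩⟩ | ⟨⟨e⟩⟩ | ⟨⟨e⟩⟩ | ⟨F, _, _, m, hm, h⟩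
  · exact absurd (comm_of_cyclic hc) hnc
  · exact hD k (by simpa using hk) h
  · have h1 : Nat.card K ∣ 55 := by
      rw [Nat.card_congr e.toEquiv, ← norm_eleven P]
      exact Subgroup.card_dvd_of_le hK'
    have h2 : Nat.card K = 1 ∨ Nat.card K = 5 ∨ Nat.card K = 11 ∨ Nat.card K = 55 := by
      have := Nat.le_of_dvd (by norm_num) h1
      generalize Nat.card K = n at *
      interval_cases n <;> first | omega | (exfalso; revert h1; decide)
    have hp : ∀ p : ℕ, p.Prime → Nat.card K ≠ p := by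
      intro p hp h3
      have : Fact p.Prime := ⟨hp⟩
      exact hnc (comm_of_cyclic (isCyclic_of_prime_card h3))
    rcases h2 with h2 | h2 | h2 | h2
    · exact absurd (Subgroup.card_eq_one.1 h2) hK.ne_bot
    · exact absurd h2 (hp 5 (by norm_num))
    · exact absurd h2 (hp 11 (by norm_num))
    · exact Or.inr (Or.inr (Or.inr (Or.inr h2)))
  · exact Or.inr (Or.inr (Or.inl ⟨e⟩))
  · exfalso
    rw [Nat.card_congr e.toEquiv, Nat.card_eq_fintype_card, Fintype.card_perm, Fintype.card_fin] at hdvd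
    revert hdvd
    decide
  · exact Or.inr (Or.inr (Or.inr (Or.inl ⟨e⟩)))
  · exfalso
    have hm1 : m = 1 := by
      have h11 : (11 : ℕ).Prime := by norm_num
      rw [← hm] at h11
      exact (Nat.Prime.eq_one_of_pow h11)
    rw [hm1, pow_one] at hm
    rcases h with ⟨⟨e⟩⟩ | ⟨⟨e⟩⟩
    · have h1 := Cfsg.Agent.ClassicalGeometry.PSL2Basic.card_PSL2_odd (F := F) (by rw [hm]; decide)
      rw [hm, ← Nat.card_congr e.toEquiv] at h1
      have h2 : Nat.card K * 2 = 660 * 2 := h1.trans (by norm_num)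
      exact ne_top_of hK (Nat.eq_of_mul_eq_mul_right (by norm_num) h2)
    · have h1 := Cfsg.Agent.ClassicalGeometry.PSL2Basic.card_PGL2 (F := F)
      rw [hm, ← Nat.card_congr e.toEquiv] at h1
      rw [h1] at hdvd
      revert hdvd
      decide

theorem eleven_elts {K : Subgroup PS} (hc : Nat.card K = 55) : {y : K | y ^ (11 ^ 1) = 1}.ncard ≤ 11 ^ 1 := by
  have hfac : (Nat.card K).factorization 11 = 1 := by
    rw [hc, show (55 : ℕ) = 11 * 5 from rfl, Nat.factorization_mul (by norm_num) (by norm_num), Finsupp.add_apply,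
      Nat.Prime.factorization_self (by norm_num), Nat.factorization_eq_zero_of_not_dvd (by norm_num)]
  obtain ⟨P⟩ : Nonempty (Sylow 11 K) := inferInstance
  have hPc : Nat.card P = 11 := by rw [P.card_eq_multiplicity, hfac, pow_one]
  have h1 : Nat.card (Sylow 11 K) ∣ P.index := P.card_dvd_index
  have h2 : P.index = 5 := by
    have h := (P : Subgroup K).card_mul_index
    have h' : Nat.card (P : Subgroup K) = 11 := hPc
    rw [hc, h'] at h
    have h'' : (P : Subgroup K).index = 5 := by omega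
    exact h''
  have h3 : Nat.card (Sylow 11 K) ≡ 1 [MOD 11] := card_sylow_modEq_one 11 K
  rw [h2] at h1
  have h5 : Nat.card (Sylow 11 K) ≤ 5 := Nat.le_of_dvd (by norm_num) h1
  have h6 : Nat.card (Sylow 11 K) = 1 := by
    generalize Nat.card (Sylow 11 K) = n at *
    interval_cases n <;> first | rfl | (exfalso; revert h3; decide)
  have h7 : Subsingleton (Sylow 11 K) := (Nat.card_eq_one_iff_unique.1 h6).1
  have h8 : {y : K | y ^ (11 ^ 1) = 1} ⊆ (P : Set K) := by
    intro y hy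
    have h9 : IsPGroup 11 (zpowers y) := by
      rintro ⟨z, n, rfl⟩
      refine ⟨1, Subtype.ext ?_⟩
      show (y ^ n) ^ (11 ^ 1) = 1
      rw [← zpow_natCast, ← zpow_mul, mul_comm, zpow_mul, zpow_natCast]
      have : y ^ (11 ^ 1) = 1 := hy
      rw [this, one_zpow]
    obtain ⟨P', hP'⟩ := h9.exists_le_sylow
    have h10 : P' = P := Subsingleton.elim _ _
    rw [h10] at hP'
    exact hP' (mem_zpowers y)
  refine (Set.ncard_le_ncard h8 (Set.toFinite _)).trans ?_
  rw [pow_one]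
  exact le_of_eq hPc

open Classical in
theorem wt_adm {K : Subgroup PS} (hK : Adm K) : 88 ≤ ∑ t : PS, if t ∈ K then wt t else 0 := by
  rcases adm_ty hK with ⟨⟨e⟩⟩ | ⟨⟨e⟩⟩ | ⟨⟨e⟩⟩ | ⟨⟨e⟩⟩ | hc
  · rw [sum_iso K e]; exact le_of_eq (by rw [← d5])
  · rw [sum_iso K e]; exact le_trans (by norm_num) (le_of_eq (by rw [← d6]) : 122 ≤ _)
  · rw [sum_iso K e]; exact le_of_eq (by rw [← a4])
  · rw [sum_iso K e]; exact le_trans (by norm_num) (le_of_eq (by rw [← a5]) : 388 ≤ _)
  · have hnc : ¬ ∀ a ∈ K, ∀ b ∈ K, a * b = b * a := hK.not_comm ncomm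
    have : Fintype K := Fintype.ofFinite K
    rw [sum_iso K (MulEquiv.refl K)]
    have h11 := eleven_elts hc
    rw [pow_one] at h11
    have h1 : ∀ y : K, y ^ 11 = 1 ∨ (y ≠ 1 ∧ y ^ 5 = 1) := by
      intro y
      have h2 : orderOf y ∣ 55 := hc ▸ orderOf_dvd_natCard y
      have h3 : orderOf y = 1 ∨ orderOf y = 5 ∨ orderOf y = 11 ∨ orderOf y = 55 := by
        have := Nat.le_of_dvd (by norm_num) h2
        generalize orderOf y = n at *
        interval_cases n <;> omega
      rcases h3 with h | h | h | h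
      · left
        rw [orderOf_eq_one_iff.1 h, one_pow]
      · right
        have h4 := pow_orderOf_eq_one y
        rw [h] at h4
        refine ⟨fun h0 => ?_, h4⟩
        rw [h0, orderOf_one] at h
        omega
      · left
        have h4 := pow_orderOf_eq_one y
        rwa [h] at h4
      · exfalso
        apply hnc
        apply comm_of_cyclic
        exact isCyclic_of_orderOf_eq_card y (by rw [h, hc])
    have h2 : ∀ y : K, 2 * (if y ^ 11 = 1 then 0 else 1) ≤ wt y := by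
      intro y
      by_cases h : y ^ 11 = 1
      · rw [if_pos h]; exact Nat.zero_le _
      · rw [if_neg h]
        obtain ⟨a, b⟩ := (h1 y).resolve_left h
        unfold wt
        rw [if_neg a]
        split_ifs <;> norm_num
    refine le_trans ?_ (Finset.sum_le_sum fun y _ => h2 y)
    rw [← Finset.mul_sum]
    have h3 : (∑ y : K, if y ^ 11 = 1 then 0 else 1) + (Finset.univ.filter fun y : K => y ^ 11 = 1).card =
        Fintype.card K := by
      rw [Finset.card_filter, ← Finset.sum_add_distrib, ← Finset.card_univ, Finset.card_eq_sum_ones]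
      apply Finset.sum_congr rfl
      intro y _
      split_ifs <;> rfl
    rw [card_filter_univ, ← Nat.card_eq_fintype_card, hc] at h3
    have h4 : {x : K | x ^ 11 = 1}.ncard ≤ 11 := h11
    omega

/-- the number of admissible subgroups which are normalisers of a Sylow subgroup -/
theorem type_le {L : Type*} [Group L] [Finite L] {r : ℕ} (hr : r.Prime) {𝒮 : Set (Subgroup L)} {c : ℕ}
    (h : ∀ K ∈ 𝒮, Adm K ∧ K.index = c ∧ ∃ R : Subgroup L, (∀ y, y ∈ R ↔ y ∈ K ∧ ∃ k : ℕ, y ^ (r ^ k) = 1) ∧ R ≠ ⊥) :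
    𝒮.ncard ≤ c := by
  rcases 𝒮.eq_empty_or_nonempty with rfl | ⟨K₀, hK₀⟩
  · rw [Set.ncard_empty]; exact Nat.zero_le _
  · have : Fact r.Prime := ⟨hr⟩
    obtain ⟨h1, h2, R₀, h3, h4⟩ := h K₀ hK₀
    have h5 := h1.card_sylow hr h3 h4
    rw [h2] at h5
    rw [← h5]
    have h6 : 𝒮 ⊆ Set.range (fun P : Sylow r L => normalizer (P : Set L)) := by
      intro K hK
      obtain ⟨a1, a2, R, a3, a4⟩ := h K hK
      obtain ⟨P, hP, hn⟩ := a1.sylow hr a3 a4
      refine ⟨P, ?_⟩
      show normalizer ((P : Subgroup L) : Set L) = K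
      rw [hP, hn]
    refine (Set.ncard_le_ncard h6 (Set.toFinite _)).trans ?_
    rw [← Set.image_univ]
    refine (Set.ncard_image_le (Set.toFinite _)).trans ?_
    rw [Set.ncard_univ]

theorem ncard_adm : {K : Subgroup PS | Adm K}.ncard ≤ 238 := by
  have hsub : {K : Subgroup PS | Adm K} ⊆ {K | Adm K ∧ Nonempty (K ≃* DihedralGroup 5)} ∪
      ({K | Adm K ∧ Nonempty (K ≃* DihedralGroup 6)} ∪ ({K | Adm K ∧ Nonempty (K ≃* alternatingGroup (Fin 4))} ∪
      ({K | Nonempty (K ≃* alternatingGroup (Fin 5))} ∪ {K | Adm K ∧ Nat.card K = 55}))) := by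
    intro K hK
    rcases adm_ty hK with h | h | h | h | h
    · exact Or.inl ⟨hK, h⟩
    · exact Or.inr (Or.inl ⟨hK, h⟩)
    · exact Or.inr (Or.inr (Or.inl ⟨hK, h⟩))
    · exact Or.inr (Or.inr (Or.inr (Or.inl h)))
    · exact Or.inr (Or.inr (Or.inr (Or.inr ⟨hK, h⟩)))
  have n5 : {K : Subgroup PS | Adm K ∧ Nonempty (K ≃* DihedralGroup 5)}.ncard ≤ 66 := by
    refine type_le Nat.prime_five ?_
    rintro K ⟨hK, ⟨e⟩⟩
    obtain ⟨R, hR, hne, -⟩ := exists_sylow_of_card e (r := 5) (k := 1) (m := 2) Nat.prime_five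
      (by rw [DihedralGroup.nat_card]; rfl) (by norm_num) one_ne_zero
      (by rw [← card_filter_univ]; decide +kernel)
    exact ⟨hK, index_of (c := 10) (by rw [Nat.card_congr e.toEquiv, DihedralGroup.nat_card]) (by norm_num), R, hR, hne⟩
  have n6 : {K : Subgroup PS | Adm K ∧ Nonempty (K ≃* DihedralGroup 6)}.ncard ≤ 55 := by
    refine type_le Nat.prime_three ?_
    rintro K ⟨hK, ⟨e⟩⟩
    obtain ⟨R, hR, hne, -⟩ := exists_sylow_of_card e (r := 3) (k := 1) (m := 4) Nat.prime_three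
      (by rw [DihedralGroup.nat_card]; rfl) (by norm_num) one_ne_zero
      (by rw [← card_filter_univ]; decide +kernel)
    exact ⟨hK, index_of (c := 12) (by rw [Nat.card_congr e.toEquiv, DihedralGroup.nat_card]) (by norm_num), R, hR, hne⟩
  have cA4 : Nat.card (alternatingGroup (Fin 4)) = 12 := by
    rw [Nat.card_eq_fintype_card]; decide +kernel
  have n4 : {K : Subgroup PS | Adm K ∧ Nonempty (K ≃* alternatingGroup (Fin 4))}.ncard ≤ 55 := by
    refine type_le Nat.prime_two ?_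
    rintro K ⟨hK, ⟨e⟩⟩
    obtain ⟨R, hR, hne, -⟩ := exists_sylow_of_card e (r := 2) (k := 2) (m := 3) Nat.prime_two
      (by rw [cA4]; rfl) (by norm_num) two_ne_zero
      (by rw [← card_filter_univ]; decide +kernel)
    exact ⟨hK, index_of (c := 12) (by rw [Nat.card_congr e.toEquiv, cA4]) (by norm_num), R, hR, hne⟩
  have n11 : {K : Subgroup PS | Adm K ∧ Nat.card K = 55}.ncard ≤ 12 := by
    refine type_le (r := 11) (by norm_num) ?_
    rintro K ⟨hK, hc⟩
    obtain ⟨R, hR, hne, -⟩ := exists_sylow_of_card (MulEquiv.refl K) (r := 11) (k := 1) (m := 5) (by norm_num)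
      (by rw [hc]; rfl) (by norm_num) one_ne_zero (eleven_elts hc)
    exact ⟨hK, index_of (c := 55) hc (by norm_num), R, hR, hne⟩
  have n60 := a5_le (L := PS) two_le three_le
  have h1 := Set.ncard_le_ncard hsub (Set.toFinite _)
  have u1 := Set.ncard_union_le {K : Subgroup PS | Adm K ∧ Nonempty (K ≃* DihedralGroup 5)}
      ({K | Adm K ∧ Nonempty (K ≃* DihedralGroup 6)} ∪ ({K | Adm K ∧ Nonempty (K ≃* alternatingGroup (Fin 4))} ∪
      ({K | Nonempty (K ≃* alternatingGroup (Fin 5))} ∪ {K | Adm K ∧ Nat.card K = 55})))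
  have u2 := Set.ncard_union_le {K : Subgroup PS | Adm K ∧ Nonempty (K ≃* DihedralGroup 6)}
      ({K | Adm K ∧ Nonempty (K ≃* alternatingGroup (Fin 4))} ∪
      ({K | Nonempty (K ≃* alternatingGroup (Fin 5))} ∪ {K | Adm K ∧ Nat.card K = 55}))
  have u3 := Set.ncard_union_le {K : Subgroup PS | Adm K ∧ Nonempty (K ≃* alternatingGroup (Fin 4))}
      ({K | Nonempty (K ≃* alternatingGroup (Fin 5))} ∪ {K | Adm K ∧ Nat.card K = 55})
  have u4 := Set.ncard_union_le {K : Subgroup PS | Nonempty (K ≃* alternatingGroup (Fin 5))}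
    {K | Adm K ∧ Nat.card K = 55}
  omega

end Cfsg.Agent.H417.EP.Eleven
end

-- part: H417/EP/ASix
section
set_option linter.all false
open scoped Cfsg.Agent.FastGrp

-- part: H417/EP/ASixK
section
/-!
# S3499 (IV-L), `soc(A) = A₆`: counts in `A₆` (helper417)
-/

set_option autoImplicit false

namespace Cfsg.Agent.H417.EP.Six

open Equiv Equiv.Perm Subgroup

abbrev A6 := alternatingGroup (Fin 6)

theorem card_A6 : Nat.card A6 = 360 := by
  have h : 2 * Nat.card A6 = Nat.card (Perm (Fin 6)) := two_mul_nat_card_alternatingGroup (α := Fin 6)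
  rw [Nat.card_eq_fintype_card (α := Perm (Fin 6)), Fintype.card_perm, Fintype.card_fin] at h
  have h1 : Nat.factorial 6 = 720 := by decide
  omega

theorem type_prime {p : ℕ} [hp : Fact p.Prime] {a : A6} (ha : a ≠ 1) (h2 : a ^ p = 1) :
    ∃ k, k ≠ 0 ∧ k * p ≤ 6 ∧ (a : Perm (Fin 6)).cycleType = Multiset.replicate k p := by
  have h3 : (a : Perm (Fin 6)) ^ p = 1 := congrArg Subtype.val h2
  have h4 := cycleType_of_pow_prime_eq_one h3
  refine ⟨_, ?_, ?_, h4⟩
  · intro h
    rw [Multiset.card_eq_zero, cycleType_eq_zero] at h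
    exact ha (Subtype.ext h)
  · have h5 : (a : Perm (Fin 6)).support.card ≤ 6 := by
      have := (a : Perm (Fin 6)).support.card_le_univ
      rwa [Fintype.card_fin] at this
    have h6 := sum_cycleType (a : Perm (Fin 6))
    rw [h4, Multiset.sum_replicate, smul_eq_mul] at h6
    rw [h6]
    exact h5

/-- even involutions -/
theorem type_two {a : A6} (ha : a ≠ 1) (h2 : a ^ 2 = 1) : (a : Perm (Fin 6)).cycleType = Multiset.replicate 2 2 := by
  have : Fact (Nat.Prime 2) := ⟨Nat.prime_two⟩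
  obtain ⟨k, h0, h6, h4⟩ := type_prime ha h2
  have h7 : sign (a : Perm (Fin 6)) = 1 := mem_alternatingGroup.1 a.2
  rw [sign_of_cycleType, h4, Multiset.sum_replicate, Multiset.card_replicate, smul_eq_mul] at h7
  have hk3 : k ≤ 3 := by omega
  rw [h4]
  interval_cases k
  · exact absurd rfl h0
  · exact absurd h7 (by decide)
  · rfl
  · exact absurd h7 (by decide)

theorem ncard_type (k p : ℕ) :
    {x : A6 | (x : Perm (Fin 6)).cycleType = Multiset.replicate k p}.ncard ≤
      (Finset.univ.filter fun x : Perm (Fin 6) => x.cycleType = Multiset.replicate k p).card := by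
  rw [← Set.ncard_coe_finset, Finset.coe_filter_univ]
  exact Set.ncard_le_ncard_of_injOn (fun x : A6 => (x : Perm (Fin 6))) (fun x hx => hx)
    (fun x _ y _ h => Subtype.ext h) (Set.toFinite _)

theorem count_two : (Finset.univ.filter fun x : Perm (Fin 6) => x.cycleType = Multiset.replicate 2 2).card = 45 := by
  have h1 := Equiv.Perm.card_of_cycleType (Fin 6) (Multiset.replicate 2 2)
  rw [if_pos ⟨by simp, fun a ha => (Multiset.eq_of_mem_replicate ha).ge⟩] at h1
  rw [h1, Fintype.card_fin, Multiset.sum_replicate, Multiset.prod_replicate, Multiset.toFinset_replicate,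
      if_neg (by norm_num), Finset.prod_singleton, Multiset.count_replicate_self]
  norm_num [Nat.factorial]

theorem count_three : (Finset.univ.filter fun x : Perm (Fin 6) => x.cycleType = Multiset.replicate 1 3).card = 40 := by
  have h1 := Equiv.Perm.card_of_cycleType (Fin 6) (Multiset.replicate 1 3)
  rw [if_pos ⟨by simp, fun a ha => by rw [Multiset.eq_of_mem_replicate ha]; norm_num⟩] at h1
  rw [h1, Fintype.card_fin, Multiset.sum_replicate, Multiset.prod_replicate, Multiset.toFinset_replicate,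
      if_neg (by norm_num), Finset.prod_singleton, Multiset.count_replicate_self]
  norm_num [Nat.factorial]

theorem count_three' : (Finset.univ.filter fun x : Perm (Fin 6) => x.cycleType = Multiset.replicate 2 3).card = 40 := by
  have h1 := Equiv.Perm.card_of_cycleType (Fin 6) (Multiset.replicate 2 3)
  rw [if_pos ⟨by simp, fun a ha => by rw [Multiset.eq_of_mem_replicate ha]; norm_num⟩] at h1
  rw [h1, Fintype.card_fin, Multiset.sum_replicate, Multiset.prod_replicate, Multiset.toFinset_replicate,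
      if_neg (by norm_num), Finset.prod_singleton, Multiset.count_replicate_self]
  norm_num [Nat.factorial]

theorem ncard_two : {x : A6 | x ≠ 1 ∧ x ^ 2 = 1}.ncard ≤ 45 := by
  refine le_trans (Set.ncard_le_ncard ?_ (Set.toFinite _)) ((ncard_type 2 2).trans (le_of_eq count_two))
  rintro x ⟨h1, h2⟩
  exact type_two h1 h2

theorem ncard_three : {x : A6 | x ≠ 1 ∧ x ^ 3 = 1}.ncard ≤ 80 := by
  have : Fact (Nat.Prime 3) := ⟨Nat.prime_three⟩
  have hsub : {x : A6 | x ≠ 1 ∧ x ^ 3 = 1} ⊆ {x : A6 | (x : Perm (Fin 6)).cycleType = Multiset.replicate 1 3} ∪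
      {x : A6 | (x : Perm (Fin 6)).cycleType = Multiset.replicate 2 3} := by
    rintro x ⟨h1, h2⟩
    obtain ⟨k, h0, h6, h4⟩ := type_prime h1 h2
    have hk : k = 1 ∨ k = 2 := by omega
    rcases hk with rfl | rfl
    · exact Or.inl h4
    · exact Or.inr h4
  have h1 := Set.ncard_le_ncard hsub (Set.toFinite _)
  have h2 := Set.ncard_union_le {x : A6 | (x : Perm (Fin 6)).cycleType = Multiset.replicate 1 3}
    {x : A6 | (x : Perm (Fin 6)).cycleType = Multiset.replicate 2 3}
  have h3 := ncard_type 1 3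
  have h4 := ncard_type 2 3
  rw [count_three] at h3
  rw [count_three'] at h4
  omega

theorem ncard_cent {a : A6} (ha : a ≠ 1) (h2 : a ^ 2 = 1) : {b : A6 | a * b = b * a}.ncard ≤ 8 := by
  have ht := type_two ha h2
  have hC : Nat.card (centralizer ({(a : Perm (Fin 6))} : Set (Perm (Fin 6)))) = 16 := by
    rw [nat_card_centralizer, ht, Fintype.card_fin, Multiset.sum_replicate, Multiset.prod_replicate,
      Multiset.toFinset_replicate, if_neg (by norm_num), Finset.prod_singleton, Multiset.count_replicate_self]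
    norm_num [Nat.factorial]
  have haa : ∀ i, (a : Perm (Fin 6)) ((a : Perm (Fin 6)) i) = i := by
    intro i
    have h3 : (a : Perm (Fin 6)) ^ 2 = 1 := congrArg Subtype.val h2
    rw [pow_two] at h3
    rw [← Perm.mul_apply, h3, Perm.one_apply]
  obtain ⟨x, hx⟩ : ∃ x, (a : Perm (Fin 6)) x ≠ x := by
    by_contra hcon
    push Not at hcon
    exact ha (Subtype.ext (Equiv.ext hcon))
  set c : Perm (Fin 6) := swap x ((a : Perm (Fin 6)) x) with hc
  have hcodd : sign c = -1 := sign_swap hx.symm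
  have hcc : (a : Perm (Fin 6)) * c = c * a := by
    have h3 := mul_swap_eq_swap_mul (a : Perm (Fin 6)) x ((a : Perm (Fin 6)) x)
    rw [haa, swap_comm ((a : Perm (Fin 6)) x) x] at h3
    exact h3
  let f : ({b : A6 | a * b = b * a} ⊕ {b : A6 | a * b = b * a}) → centralizer ({(a : Perm (Fin 6))} : Set (Perm (Fin 6))) :=
    fun s => match s with
    | Sum.inl b => ⟨((b : A6) : Perm (Fin 6)), by
        rw [mem_centralizer_singleton_iff]
        exact (congrArg Subtype.val b.2).symm⟩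
    | Sum.inr b => ⟨c * ((b : A6) : Perm (Fin 6)), by
        rw [mem_centralizer_singleton_iff]
        have h3 : (a : Perm (Fin 6)) * ((b : A6) : Perm (Fin 6)) = ((b : A6) : Perm (Fin 6)) * a :=
          congrArg Subtype.val b.2
        rw [mul_assoc, ← h3, ← mul_assoc, ← hcc, mul_assoc]⟩
  have hf : Function.Injective f := by
    have hev : ∀ b : A6, sign (b : Perm (Fin 6)) = 1 := fun b => mem_alternatingGroup.1 b.2
    have hv : ∀ s s', f s = f s' → (f s : Perm (Fin 6)) = (f s' : Perm (Fin 6)) := fun s s' h => by rw [h]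
    rintro (b | b) (b' | b') h
    · have h3 : ((b : A6) : Perm (Fin 6)) = ((b' : A6) : Perm (Fin 6)) := hv (Sum.inl b) (Sum.inl b') h
      rw [Subtype.ext (Subtype.ext h3)]
    · exfalso
      have h3 : ((b : A6) : Perm (Fin 6)) = c * ((b' : A6) : Perm (Fin 6)) := hv (Sum.inl b) (Sum.inr b') h
      have h4 := congrArg sign h3
      rw [map_mul, hev, hev, hcodd] at h4
      exact absurd h4 (by decide)
    · exfalso
      have h3 : c * ((b : A6) : Perm (Fin 6)) = ((b' : A6) : Perm (Fin 6)) := hv (Sum.inr b) (Sum.inl b') h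
      have h4 := congrArg sign h3
      rw [map_mul, hev, hev, hcodd] at h4
      exact absurd h4 (by decide)
    · have h3 : c * ((b : A6) : Perm (Fin 6)) = c * ((b' : A6) : Perm (Fin 6)) := hv (Sum.inr b) (Sum.inr b') h
      rw [Subtype.ext (Subtype.ext (mul_left_cancel h3))]
  have h3 := Nat.card_le_card_of_injective f hf
  rw [Nat.card_sum, hC, Nat.card_coe_set_eq] at h3
  omega

end Cfsg.Agent.H417.EP.Six
end

-- part: H417/EP/ASix
section
/-!
# S3499 (IV-L), `soc(A) = A₆`: the admissible subgroups of `A₆` (helper417)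
-/

set_option autoImplicit false

namespace Cfsg.Agent.H417.EP.Six

open Subgroup Equiv Equiv.Perm
open Cfsg.Agent.H417.EP.Eleven (D card_filter_univ type_le pairs pairs_a5 a5_le comm_of_cyclic)

instance simple_A6 : IsSimpleGroup A6 := alternatingGroup.isSimpleGroup (by simp)

theorem two_le : (D A6 2).ncard ≤ 45 := ncard_two

theorem three_le : (D A6 3).ncard ≤ 80 := ncard_three

theorem cent_le {a : A6} (ha : a ≠ 1) (h2 : a ^ 2 = 1) : {b : A6 | a * b = b * a}.ncard ≤ 8 := ncard_cent ha h2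

theorem ncomm : ∃ a b : A6, a * b ≠ b * a := by
  by_contra hcon
  push Not at hcon
  have hm : (swap (0 : Fin 6) 1 * swap (2 : Fin 6) 3 : Perm (Fin 6)) ∈ alternatingGroup (Fin 6) := by
    rw [mem_alternatingGroup]
    decide
  have h1 := cent_le (a := ⟨swap (0 : Fin 6) 1 * swap (2 : Fin 6) 3, hm⟩) (by
    intro h
    have h0 : (swap (0 : Fin 6) 1 * swap (2 : Fin 6) 3 : Perm (Fin 6)) = 1 := congrArg Subtype.val h
    exact absurd h0 (by decide)) (by
    apply Subtype.ext
    show (swap (0 : Fin 6) 1 * swap (2 : Fin 6) 3 : Perm (Fin 6)) ^ 2 = 1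
    decide)
  have h2 : {b : A6 | (⟨swap (0 : Fin 6) 1 * swap (2 : Fin 6) 3, hm⟩ : A6) * b = b * ⟨swap (0 : Fin 6) 1 * swap (2 : Fin 6) 3, hm⟩} = Set.univ := by
    ext b
    exact ⟨fun _ => Set.mem_univ b, fun _ => hcon _ b⟩
  rw [h2, Set.ncard_univ, card_A6] at h1
  omega

theorem index_of {K : Subgroup A6} {c d : ℕ} (hK : Nat.card K = c) (hc : c * d = 360) : K.index = d := by
  have h1 := K.card_mul_index
  rw [card_A6, hK, ← hc] at h1
  rcases Nat.eq_zero_or_pos c with h2 | h2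
  · rw [h2] at hc; omega
  · exact Nat.eq_of_mul_eq_mul_left h2 h1

theorem comm_of_equiv {L : Type*} [Group L] {K : Subgroup L} {X : Type*} [Group X] (e : K ≃* X)
    (hX : ∀ a b : X, a * b = b * a) : ∀ a ∈ K, ∀ b ∈ K, a * b = b * a := by
  intro a ha b hb
  have h1 : (⟨a, ha⟩ : K) * ⟨b, hb⟩ = ⟨b, hb⟩ * ⟨a, ha⟩ := by
    apply e.injective
    rw [map_mul, map_mul, hX]
  exact Subtype.ext_iff.1 h1

theorem card_dvd_factorial {G : Type*} [Group G] [Finite G] [IsSimpleGroup G] {H : Subgroup G} (hH : H ≠ ⊤) :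
    Nat.card G ∣ (H.index).factorial := by
  have h1 : (MulAction.toPermHom G (G ⧸ H)).ker = ⊥ := by
    rcases (inferInstance : (MulAction.toPermHom G (G ⧸ H)).ker.Normal).eq_bot_or_eq_top with h | h
    · exact h
    · exfalso
      apply hH
      rw [← Subgroup.normalCore_eq_ker] at h
      rw [eq_top_iff, ← h]
      exact Subgroup.normalCore_le H
  have h2 := Subgroup.card_dvd_of_injective _ ((MonoidHom.ker_eq_bot_iff _).1 h1)
  rw [Nat.card_perm] at h2
  exact h2

theorem card_norm_dvd {G : Type*} [Group G] [Finite G] (f : G ≃* A6) (P : Sylow 3 G) :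
    Nat.card P = 9 ∧ Nat.card (normalizer (P : Set G)) ∣ 36 := by
  have hG : Nat.card G = 360 := by rw [Nat.card_congr f.toEquiv, card_A6]
  have hs : IsSimpleGroup G := f.isSimpleGroup
  have hf : (360 : ℕ).factorization 3 = 2 := by
    rw [show (360 : ℕ) = 3 ^ 2 * 40 from rfl, Nat.factorization_mul (by norm_num) (by norm_num), Finsupp.add_apply,
      Nat.Prime.factorization_pow Nat.prime_three, Finsupp.single_eq_same,
      Nat.factorization_eq_zero_of_not_dvd (by norm_num)]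
  have hPc : Nat.card P = 9 := by rw [P.card_eq_multiplicity, hG, hf]; norm_num
  refine ⟨hPc, ?_⟩
  have h1 : Nat.card (Sylow 3 G) ∣ P.index := P.card_dvd_index
  have h2 : P.index = 40 := by
    have h := (P : Subgroup G).card_mul_index
    have h' : Nat.card (P : Subgroup G) = 9 := hPc
    rw [hG, h'] at h
    have h'' : (P : Subgroup G).index = 40 := by omega
    exact h''
  have h3 : Nat.card (Sylow 3 G) ≡ 1 [MOD 3] := card_sylow_modEq_one 3 G
  have h4 := P.card_eq_index_normalizer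
  rw [h2] at h1
  have h5 : Nat.card (Sylow 3 G) ≤ 40 := Nat.le_of_dvd (by norm_num) h1
  have h7 := (normalizer ((P : Subgroup G) : Set G)).card_mul_index
  have h6 : Nat.card (Sylow 3 G) = 1 ∨ Nat.card (Sylow 3 G) = 4 ∨ Nat.card (Sylow 3 G) = 10 ∨ Nat.card (Sylow 3 G) = 40 := by
    generalize Nat.card (Sylow 3 G) = n at *
    interval_cases n <;> first | omega | (exfalso; revert h3; decide)
  have hnt : normalizer ((P : Subgroup G) : Set G) ≠ ⊤ := by
    intro h8
    have h9 : (P : Subgroup G).Normal := Subgroup.normalizer_eq_top_iff.1 h8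
    have h10 : Nat.card (P : Subgroup G) = 9 := hPc
    rcases h9.eq_bot_or_eq_top with h9 | h9
    · rw [h9, Subgroup.card_bot] at h10
      omega
    · rw [h9, Subgroup.card_top, hG] at h10
      omega
  have h8 := card_dvd_factorial hnt
  have h9 : (normalizer ((P : Subgroup G) : Set G)).index = Nat.card (Sylow 3 G) := h4.symm
  show Nat.card (normalizer ((P : Subgroup G) : Set G)) ∣ 36
  rw [h9, hG] at h8
  rw [h9, hG] at h7
  rcases h6 with h6 | h6 | h6 | h6
  · exfalso
    rw [h6] at h8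
    revert h8
    decide
  · exfalso
    rw [h6] at h8
    revert h8
    decide
  · rw [h6] at h7
    have : Nat.card (normalizer ((P : Subgroup G) : Set G)) = 36 := by omega
    rw [this]
  · rw [h6] at h7
    have : Nat.card (normalizer ((P : Subgroup G) : Set G)) = 9 := by omega
    rw [this]
    norm_num

/-- the isomorphism types -/
def Ty (K : Subgroup A6) : Prop :=
  Nonempty (K ≃* DihedralGroup 4) ∨ Nonempty (K ≃* DihedralGroup 5) ∨ Nonempty (K ≃* Perm (Fin 4)) ∨
    Nonempty (K ≃* alternatingGroup (Fin 5)) ∨ (Nat.card K = 36 ∧ ∃ R : Subgroup A6, (∀ y, y ∈ R ↔ y ∈ K ∧ ∃ k : ℕ, y ^ (3 ^ k) = 1) ∧ R ≠ ⊥)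

theorem adm_ty {K : Subgroup A6} (hK : Adm K) : Ty K := by
  classical
  have hnc : ¬ ∀ a ∈ K, ∀ b ∈ K, a * b = b * a := hK.not_comm ncomm
  have hdvd : Nat.card K ∣ 360 := by rw [← card_A6]; exact Subgroup.card_subgroup_dvd_card K
  have : Fact (Nat.Prime 3) := ⟨Nat.prime_three⟩
  let F := GaloisField 3 2
  have : Finite F := inferInstanceAs (Finite (GaloisField 3 2))
  have : Fintype F := Fintype.ofFinite F
  have hF : Fintype.card F = 9 := by
    rw [← Nat.card_eq_fintype_card, GaloisField.card 3 2 two_ne_zero]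
    norm_num
  obtain ⟨f⟩ := Cfsg.Agent.S0254.result hF
  let K' : Subgroup (Matrix.ProjectiveSpecialLinearGroup (Fin 2) F) := K.map f.symm.toMonoidHom
  let e0 : K ≃* K' := K.equivMapOfInjective f.symm.toMonoidHom f.symm.injective
  have hD : ∀ k : ℕ, (k ∣ 5 ∨ k ∣ 4) → Nonempty (K' ≃* DihedralGroup k) → Ty K := by
    rintro k hk ⟨e⟩
    have hk' : k = 1 ∨ k = 2 ∨ k = 4 ∨ k = 5 := by
      rcases hk with h | h
      · have := Nat.le_of_dvd (by norm_num) h
        interval_cases k <;> omega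
      · have := Nat.le_of_dvd (by norm_num) h
        interval_cases k <;> omega
    rcases hk' with rfl | rfl | rfl | rfl
    · exact absurd (comm_of_equiv (e0.trans e) (by decide +kernel)) hnc
    · exact absurd (comm_of_equiv (e0.trans e) (by decide +kernel)) hnc
    · exact Or.inl ⟨e0.trans e⟩
    · exact Or.inr (Or.inl ⟨e0.trans e⟩)
  have hA4 : Nonempty (K ≃* alternatingGroup (Fin 4)) → Ty K := by
    rintro ⟨e⟩
    exfalso
    have cA4 : Nat.card (alternatingGroup (Fin 4)) = 12 := by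
      rw [Nat.card_eq_fintype_card]; decide +kernel
    obtain ⟨R, hR, hne, -⟩ := exists_sylow_of_card e (r := 2) (k := 2) (m := 3) Nat.prime_two
      (by rw [cA4]; rfl) (by norm_num) two_ne_zero
      (by rw [← card_filter_univ]; (set_option synthInstance.maxSize 9000 in open scoped Cfsg.Agent.Lib.FastPerm in decide +kernel))
    have h1 := hK.modEq Nat.prime_two hR hne
    rw [index_of (c := 12) (d := 30) (by rw [Nat.card_congr e.toEquiv, cA4]) (by norm_num)] at h1
    exact absurd h1 (by decide)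
  rcases Cfsg.Agent.S0799.result (F := F) (q := 9) hF 3 K' with
    ⟨k, hk, ⟨hc, -⟩ | h⟩ | ⟨P, K2, hK2, ⟨e⟩⟩ | ⟨⟨e⟩⟩ | ⟨⟨e⟩⟩ | ⟨⟨e⟩⟩ | ⟨E, _, _, m, hm, h⟩
  · refine absurd ?_ hnc
    intro a ha b hb
    have h1 : (⟨a, ha⟩ : K) * ⟨b, hb⟩ = ⟨b, hb⟩ * ⟨a, ha⟩ := by
      apply e0.injective
      rw [map_mul, map_mul]
      exact hc.isMulCommutative.is_comm.comm _ _
    exact Subtype.ext_iff.1 h1
  · exact hD k (by simpa using hk) h
  · obtain ⟨hP9, hN36⟩ := card_norm_dvd f P
    have e1 : K ≃* K2 := e0.trans e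
    have hKc : Nat.card K = Nat.card K2 := Nat.card_congr e1.toEquiv
    have hK36 : Nat.card K2 ∣ 36 := (Subgroup.card_dvd_of_le hK2).trans hN36
    -- the 3-elements of `K2`
    have h3el : ∀ (k : ℕ) (y : K2), y ^ (3 ^ k) = 1 → (y : Matrix.ProjectiveSpecialLinearGroup (Fin 2) F) ∈
        ((P : Subgroup _) ⊓ K2 : Subgroup (Matrix.ProjectiveSpecialLinearGroup (Fin 2) F)) := by
      intro k y hy
      refine ⟨?_, y.2⟩
      have hy' : (y : Matrix.ProjectiveSpecialLinearGroup (Fin 2) F) ^ (3 ^ k) = 1 := congrArg Subtype.val hy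
      have h1 : IsPGroup 3 (zpowers (y : Matrix.ProjectiveSpecialLinearGroup (Fin 2) F)) := by
        rintro ⟨z, n, rfl⟩
        refine ⟨k, Subtype.ext ?_⟩
        show ((y : Matrix.ProjectiveSpecialLinearGroup (Fin 2) F) ^ n) ^ (3 ^ k) = 1
        rw [← zpow_natCast, ← zpow_mul, mul_comm, zpow_mul, zpow_natCast, hy', one_zpow]
      have h2 := h1.inf_normalizer_sylow P
      have h4 : (y : Matrix.ProjectiveSpecialLinearGroup (Fin 2) F) ∈
          zpowers (y : Matrix.ProjectiveSpecialLinearGroup (Fin 2) F) ⊓ normalizer (P : Set _) :=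
        ⟨mem_zpowers _, hK2 y.2⟩
      rw [h2] at h4
      exact h4.2
    have hPK : Nat.card ((P : Subgroup _) ⊓ K2 : Subgroup (Matrix.ProjectiveSpecialLinearGroup (Fin 2) F)) ∣ 9 := by
      rw [← hP9]
      exact Subgroup.card_dvd_of_le inf_le_left
    have hPK' : Nat.card ((P : Subgroup _) ⊓ K2 : Subgroup (Matrix.ProjectiveSpecialLinearGroup (Fin 2) F)) ∣ Nat.card K2 :=
      Subgroup.card_dvd_of_le inf_le_right
    have hle : ∀ k : ℕ, {y : K2 | y ^ (3 ^ k) = 1}.ncard ≤
        Nat.card ((P : Subgroup _) ⊓ K2 : Subgroup (Matrix.ProjectiveSpecialLinearGroup (Fin 2) F)) := by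
      intro k
      rw [← Nat.card_coe_set_eq]
      refine Nat.card_le_card_of_injective (fun y => (⟨_, h3el k y.1 y.2⟩ :
        ((P : Subgroup _) ⊓ K2 : Subgroup (Matrix.ProjectiveSpecialLinearGroup (Fin 2) F)))) ?_
      intro a b hab
      exact Subtype.ext (Subtype.ext (congrArg (fun z :
        ((P : Subgroup _) ⊓ K2 : Subgroup (Matrix.ProjectiveSpecialLinearGroup (Fin 2) F)) =>
          (z : Matrix.ProjectiveSpecialLinearGroup (Fin 2) F)) hab))
    have hn : Nat.card K2 = 1 ∨ Nat.card K2 = 2 ∨ Nat.card K2 = 4 ∨ Nat.card K2 = 9 ∨ Nat.card K2 = 3 ∨ Nat.card K2 = 6 ∨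
        Nat.card K2 = 12 ∨ Nat.card K2 = 18 ∨ Nat.card K2 = 36 := by
      have := Nat.le_of_dvd (by norm_num) hK36
      generalize Nat.card K2 = n at *
      interval_cases n <;> omega
    have hcomm2 : ∀ p : ℕ, p.Prime → Nat.card K ≠ p ^ 2 := by
      intro p hp h3
      have : Fact p.Prime := ⟨hp⟩
      apply hnc
      intro a ha b hb
      have h4 := (IsPGroup.isMulCommutative_of_card_eq_prime_sq (G := K) (p := p) h3).is_comm.comm ⟨a, ha⟩ ⟨b, hb⟩
      exact congrArg Subtype.val h4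
    have hcommp : ∀ p : ℕ, p.Prime → Nat.card K ≠ p := by
      intro p hp h3
      have : Fact p.Prime := ⟨hp⟩
      exact hnc (fun a ha b hb => by
        have h : IsCyclic K := isCyclic_of_prime_card h3
        have h1 : (⟨a, ha⟩ : K) * ⟨b, hb⟩ = ⟨b, hb⟩ * ⟨a, ha⟩ := h.isMulCommutative.is_comm.comm _ _
        exact Subtype.ext_iff.1 h1)
    have hno3 : ∀ m : ℕ, ¬ 3 ∣ m → Nat.card K2 = 3 ^ 1 * m → False := by
      intro m hm hc
      obtain ⟨R, hR, hne, hRc⟩ := exists_sylow_of_card e1 (r := 3) (k := 1) (m := m) Nat.prime_three hc hm one_ne_zero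
        ((hle 1).trans (by
          rw [hc] at hPK'
          have h9 : Nat.card ((P : Subgroup _) ⊓ K2 : Subgroup (Matrix.ProjectiveSpecialLinearGroup (Fin 2) F)) ≤ 9 :=
            Nat.le_of_dvd (by norm_num) hPK
          generalize Nat.card ((P : Subgroup _) ⊓ K2 : Subgroup (Matrix.ProjectiveSpecialLinearGroup (Fin 2) F)) = n at *
          by_contra hcon
          have hn9 : n = 9 := by
            interval_cases n <;> omega
          rw [hn9] at hPK'
          have h10 : 3 * 3 ∣ 3 * m := by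
            rw [pow_one] at hPK'
            exact hPK'
          exact hm (Nat.dvd_of_mul_dvd_mul_left (by norm_num) h10)))
      obtain ⟨P', hP', -⟩ := hK.sylow Nat.prime_three hR hne
      have h1 := (card_norm_dvd (MulEquiv.refl A6) P').1
      have h2 : Nat.card (P' : Subgroup A6) = 3 ^ 1 := by rw [hP', hRc]
      have h3 : Nat.card (P' : Subgroup A6) = 9 := h1
      omega
    have hyes : ∀ m : ℕ, ¬ 3 ∣ m → Nat.card K2 = 3 ^ 2 * m →
        ∃ R : Subgroup A6, (∀ y, y ∈ R ↔ y ∈ K ∧ ∃ k : ℕ, y ^ (3 ^ k) = 1) ∧ R ≠ ⊥ := by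
      intro m hm hc
      obtain ⟨R, hR, hne, -⟩ := exists_sylow_of_card e1 (r := 3) (k := 2) (m := m) Nat.prime_three hc hm two_ne_zero
        ((hle 2).trans ((Nat.le_of_dvd (by norm_num) hPK).trans (by norm_num)))
      exact ⟨R, hR, hne⟩
    rcases hn with hn | hn | hn | hn | hn | hn | hn | hn | hn
    · exact absurd (Subgroup.card_eq_one.1 (hKc.trans hn)) hK.ne_bot
    · exact absurd (hKc.trans hn) (hcommp 2 Nat.prime_two)
    · exact absurd (hKc.trans hn) (fun h => hcomm2 2 Nat.prime_two (h.trans (by norm_num)))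
    · exact absurd (hKc.trans hn) (fun h => hcomm2 3 Nat.prime_three (h.trans (by norm_num)))
    · exact (hno3 1 (by norm_num) (by rw [hn]; norm_num)).elim
    · exact (hno3 2 (by norm_num) (by rw [hn]; norm_num)).elim
    · exact (hno3 4 (by norm_num) (by rw [hn]; norm_num)).elim
    · exfalso
      obtain ⟨R, hR, hne⟩ := hyes 2 (by norm_num) (by rw [hn]; norm_num)
      have h1 := hK.modEq Nat.prime_three hR hne
      rw [index_of (c := 18) (d := 20) (hKc.trans hn) (by norm_num)] at h1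
      exact absurd h1 (by decide)
    · exact Or.inr (Or.inr (Or.inr (Or.inr ⟨hKc.trans hn, hyes 4 (by norm_num) (by rw [hn]; norm_num)⟩)))
  · exact hA4 ⟨e0.trans e⟩
  · exact Or.inr (Or.inr (Or.inl ⟨e0.trans e⟩))
  · exact Or.inr (Or.inr (Or.inr (Or.inl ⟨e0.trans e⟩)))
  · have hE : Fintype.card E = 3 ∨ Fintype.card E = 9 := by
      have hm0 : m ≠ 0 := by
        rintro rfl
        rw [pow_zero] at hm
        omega
      have h1 : Fintype.card E ∣ 9 := by
        rw [← hm]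
        exact dvd_pow_self _ hm0
      have h2 := Nat.le_of_dvd (by norm_num) h1
      have h3 : 1 < Fintype.card E := Fintype.one_lt_card
      generalize Fintype.card E = n at *
      interval_cases n <;> omega
    rcases hE with hE | hE
    · rcases h with ⟨⟨e⟩⟩ | ⟨⟨e⟩⟩
      · obtain ⟨e'⟩ := Cfsg.Agent.S0251.result hE
        exact hA4 ⟨(e0.trans e).trans e'⟩
      · obtain ⟨e'⟩ := Cfsg.Agent.H281.Reg.pgl_three hE
        exact Or.inr (Or.inr (Or.inl ⟨(e0.trans e).trans e'⟩))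
    · exfalso
      rcases h with ⟨⟨e⟩⟩ | ⟨⟨e⟩⟩
      · obtain ⟨e'⟩ := Cfsg.Agent.S0254.result hE
        apply hK.ne_top
        apply Subgroup.eq_top_of_card_eq
        rw [Nat.card_congr ((e0.trans e).trans e').toEquiv]
      · have h1 := Cfsg.Agent.ClassicalGeometry.PSL2Basic.card_PGL2 (F := E)
        rw [hE, ← Nat.card_congr (e0.trans e).toEquiv] at h1
        rw [h1] at hdvd
        revert hdvd
        decide

/-! ### the subgroups `S₄` -/

/-- the involutions which are squares, and `1` -/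
def V {L : Type*} [Group L] (K : Subgroup L) : Set L := {k | k * k = 1 ∧ ∃ y ∈ K, y * y = k}

theorem perm_four_mul : ∀ x y : Perm (Fin 4), (x * x = 1 ∧ ∃ u, u * u = x) → (y * y = 1 ∧ ∃ v, v * v = y) →
    ((x * y) * (x * y) = 1 ∧ ∃ w, w * w = x * y) := by (set_option synthInstance.maxSize 9000 in open scoped Cfsg.Agent.Lib.FastPerm in decide +kernel)

theorem perm_four_card : (Finset.univ.filter (fun x : Perm (Fin 4) => x * x = 1 ∧ ∃ u, u * u = x)).card = 4 := by
  (set_option synthInstance.maxSize 9000 in open scoped Cfsg.Agent.Lib.FastPerm in decide +kernel)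

theorem perm_four_pairs : (Finset.univ.filter (fun p : Perm (Fin 4) × Perm (Fin 4) => (p.1 ≠ 1 ∧ p.1 * p.1 = 1 ∧ ∃ u, u * u = p.1) ∧
    (p.2 ≠ 1 ∧ p.2 * p.2 = 1 ∧ ∃ u, u * u = p.2) ∧ p.1 ≠ p.2 ∧ p.1 * p.2 = p.2 * p.1)).card = 6 := by
  have hP : ∀ x : Perm (Fin 4), (x ≠ 1 ∧ x * x = 1 ∧ ∃ u, u * u = x) ↔
      x ∈ ({swap (0 : Fin 4) 1 * swap (2 : Fin 4) 3, swap (0 : Fin 4) 2 * swap (1 : Fin 4) 3, swap (0 : Fin 4) 3 * swap (1 : Fin 4) 2} : Finset (Perm (Fin 4))) := by
    (set_option synthInstance.maxSize 9000 in open scoped Cfsg.Agent.Lib.FastPerm in decide +kernel)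
  have e : Finset.univ.filter (fun p : Perm (Fin 4) × Perm (Fin 4) => (p.1 ≠ 1 ∧ p.1 * p.1 = 1 ∧ ∃ u, u * u = p.1) ∧
      (p.2 ≠ 1 ∧ p.2 * p.2 = 1 ∧ ∃ u, u * u = p.2) ∧ p.1 ≠ p.2 ∧ p.1 * p.2 = p.2 * p.1) =
      (({swap (0 : Fin 4) 1 * swap (2 : Fin 4) 3, swap (0 : Fin 4) 2 * swap (1 : Fin 4) 3, swap (0 : Fin 4) 3 * swap (1 : Fin 4) 2} : Finset (Perm (Fin 4))) ×ˢ
        ({swap (0 : Fin 4) 1 * swap (2 : Fin 4) 3, swap (0 : Fin 4) 2 * swap (1 : Fin 4) 3, swap (0 : Fin 4) 3 * swap (1 : Fin 4) 2} : Finset (Perm (Fin 4)))).filter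
        fun p => p.1 ≠ p.2 ∧ p.1 * p.2 = p.2 * p.1 := by
    ext p
    rw [Finset.mem_filter, Finset.mem_filter, Finset.mem_product, hP, hP, and_assoc]
    exact and_iff_right (Finset.mem_univ p)
  rw [e]
  decide +kernel

section four

variable {L : Type*} [Group L] [Finite L] {K : Subgroup L} (e : K ≃* Perm (Fin 4))

include e

omit [Finite L] in
theorem mem_V {k : K} : (k : L) ∈ V K ↔ (e k * e k = 1 ∧ ∃ u, u * u = e k) := by
  constructor
  · rintro ⟨h1, y, hy, h2⟩
    have h1' : k * k = 1 := Subtype.ext h1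
    have h2' : (⟨y, hy⟩ : K) * ⟨y, hy⟩ = k := Subtype.ext h2
    exact ⟨by rw [← map_mul, h1', map_one], e ⟨y, hy⟩, by rw [← map_mul, h2']⟩
  · rintro ⟨h1, u, h2⟩
    refine ⟨?_, (e.symm u : K), (e.symm u).2, ?_⟩
    · have h3 : k * k = 1 := by
        apply e.injective
        rw [map_mul, h1, map_one]
      exact congrArg Subtype.val h3
    · have h3 : e.symm u * e.symm u = k := by
        apply e.injective
        rw [map_mul, e.apply_symm_apply, h2]
      exact congrArg Subtype.val h3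

omit [Finite L] e in
theorem V_sub {k : L} (hk : k ∈ V K) : k ∈ K := by
  obtain ⟨-, y, hy, rfl⟩ := hk
  exact K.mul_mem hy hy

omit [Finite L] in
theorem V_mul {a b : L} (ha : a ∈ V K) (hb : b ∈ V K) : a * b ∈ V K := by
  have ha' := V_sub ha
  have hb' := V_sub hb
  have h1 := (mem_V e (k := ⟨a, ha'⟩)).1 ha
  have h2 := (mem_V e (k := ⟨b, hb'⟩)).1 hb
  have h3 := perm_four_mul _ _ h1 h2
  rw [← map_mul] at h3
  exact (mem_V e (k := ⟨a, ha'⟩ * ⟨b, hb'⟩)).2 h3

omit [Finite L] in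
theorem V_card : (V K).ncard ≤ 4 := by
  classical
  rw [← perm_four_card, card_filter_univ]
  refine Set.ncard_le_ncard_of_injOn (fun k => if h : k ∈ K then e ⟨k, h⟩ else 1) ?_ ?_ (Set.toFinite _)
  · intro k hk
    have h1 := V_sub hk
    show (if h : k ∈ K then e ⟨k, h⟩ else 1) ∈ _
    rw [dif_pos h1]
    exact (mem_V e (k := ⟨k, h1⟩)).1 hk
  · intro a ha b hb hab
    have h1 := V_sub ha
    have h2 := V_sub hb
    simp only [dif_pos h1, dif_pos h2] at hab
    exact congrArg Subtype.val (e.injective hab)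

theorem V_eq {a b : L} (ha : a ∈ V K) (hb : b ∈ V K) (ha1 : a ≠ 1) (hb1 : b ≠ 1) (hab : a ≠ b) :
    V K = {1, a, b, a * b} := by
  have h1 : ({1, a, b, a * b} : Set L) ⊆ V K := by
    rintro x (rfl | rfl | rfl | rfl)
    · exact ⟨one_mul 1, 1, one_mem _, one_mul 1⟩
    · exact ha
    · exact hb
    · exact V_mul e ha hb
  have haa : a * a = 1 := ha.1
  have h2 : ({1, a, b, a * b} : Set L).ncard = 4 := by
    have e1 : (1 : L) ∉ ({a, b, a * b} : Set L) := by
      rintro (h | h | h)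
      · exact ha1 h.symm
      · exact hb1 h.symm
      · apply hab
        have h3 : a * (a * b) = a * 1 := by rw [← h]
        rw [← mul_assoc, haa, one_mul, mul_one] at h3
        exact h3.symm
    have e2 : a ∉ ({b, a * b} : Set L) := by
      rintro (h | h)
      · exact hab h
      · exact hb1 (mul_eq_left.1 (Set.mem_singleton_iff.1 h).symm)
    have e3 : b ≠ a * b := by
      intro h
      exact ha1 (mul_eq_right.1 h.symm)
    rw [Set.ncard_insert_of_notMem e1 (Set.toFinite _), Set.ncard_insert_of_notMem e2 (Set.toFinite _), Set.ncard_pair e3]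
  symm
  refine Set.eq_of_subset_of_ncard_le h1 ?_ (Set.toFinite _)
  rw [h2]
  exact V_card e

omit [Finite L] in
theorem V_norm (hK : Adm K) {g : L} (hg : ∀ x ∈ V K, g * x * g⁻¹ ∈ V K) : g ∈ K := by
  let X : Subgroup L :=
    { carrier := V K
      one_mem' := ⟨one_mul 1, 1, one_mem _, one_mul 1⟩
      mul_mem' := V_mul e
      inv_mem' := by
        intro x hx
        have h1 : x⁻¹ = x := inv_eq_of_mul_eq_one_left hx.1
        rw [h1]
        exact hx }
  refine hK.norm X (fun x hx => V_sub hx) ?_ ?_ g hg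
  · intro h
    have h1 : (e.symm (swap 0 1 * swap 2 3) : L) ∈ X := (mem_V e).2 (by rw [e.apply_symm_apply]; decide +kernel)
    rw [h, mem_bot] at h1
    have h2 : e.symm (swap 0 1 * swap 2 3) = 1 := Subtype.ext h1
    rw [map_eq_one_iff e.symm e.symm.injective] at h2
    exact absurd h2 (by decide)
  · rintro φ y ⟨h1, z, hz, h2⟩
    have h1' : y * y = 1 := Subtype.ext h1
    have h2' : (⟨z, hz⟩ : K) * ⟨z, hz⟩ = y := Subtype.ext h2
    refine ⟨?_, (φ ⟨z, hz⟩ : K), (φ ⟨z, hz⟩).2, ?_⟩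
    · have : φ y * φ y = 1 := by rw [← map_mul, h1', map_one]
      exact congrArg Subtype.val this
    · have : φ ⟨z, hz⟩ * φ ⟨z, hz⟩ = φ y := by rw [← map_mul, h2']
      exact congrArg Subtype.val this

omit [Finite L] e in
theorem V_conj {g : L} (hg : g ∈ K) : ∀ x ∈ V K, g * x * g⁻¹ ∈ V K := by
  rintro x ⟨h1, y, hy, h2⟩
  refine ⟨?_, g * y * g⁻¹, K.mul_mem (K.mul_mem hg hy) (K.inv_mem hg), ?_⟩
  · have e1 : g * x * g⁻¹ * (g * x * g⁻¹) = g * (x * x) * g⁻¹ := by group
    rw [e1, h1, mul_one, mul_inv_cancel]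
  · rw [← h2]
    group

end four

/-- the pairs of commuting involutions -/
def TP : Set (A6 × A6) := {p | (p.1 ≠ 1 ∧ p.1 ^ 2 = 1) ∧ (p.2 ≠ 1 ∧ p.2 ^ 2 = 1) ∧ p.1 ≠ p.2 ∧ p.1 * p.2 = p.2 * p.1}

theorem ncard_TP : TP.ncard ≤ 270 := by
  have h := Cfsg.Agent.H220.EP.ncard_mul_le TP (D A6 2) (fun p a => p.1 = a) (m := 1) (n := 6) (by
    intro p hp
    have : {b | b ∈ D A6 2 ∧ p.1 = b} = {p.1} := by
      ext b
      constructor
      · rintro ⟨-, h⟩
        exact h.symm
      · intro h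
        rw [Set.mem_singleton_iff] at h
        rw [h]
        exact ⟨hp.1, rfl⟩
    rw [this, Set.ncard_singleton]) (by
    intro a ha
    have h1 : {p | p ∈ TP ∧ p.1 = a}.ncard ≤ ({b : A6 | a * b = b * a} \ {1, a}).ncard := by
      refine Set.ncard_le_ncard_of_injOn (fun p => p.2) ?_ ?_ (Set.toFinite _)
      · rintro p ⟨⟨-, h2, h3, h4⟩, rfl⟩
        refine ⟨h4, ?_⟩
        rintro (h | h)
        · exact h2.1 h
        · exact h3 (Set.mem_singleton_iff.1 h).symm
      · rintro p ⟨-, h2⟩ q ⟨-, h3⟩ h4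
        exact Prod.ext (h2.trans h3.symm) h4
    refine h1.trans ?_
    have h2 : ({1, a} : Set A6) ⊆ {b : A6 | a * b = b * a} := by
      rintro x (rfl | rfl)
      · show a * 1 = 1 * a
        rw [mul_one, one_mul]
      · rfl
    rw [Set.ncard_sdiff h2 (Set.toFinite _), Set.ncard_pair ha.1.symm]
    have h3 := cent_le ha.1 ha.2
    omega)
  have h2 := two_le
  omega

theorem ncard_four : {K : Subgroup A6 | Adm K ∧ Nonempty (K ≃* Perm (Fin 4))}.ncard ≤ 45 := by
  have h := Cfsg.Agent.H220.EP.ncard_mul_le {K : Subgroup A6 | Adm K ∧ Nonempty (K ≃* Perm (Fin 4))} TP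
    (fun K p => p.1 ∈ V K ∧ p.2 ∈ V K) (m := 6) (n := 1) (by
    rintro K ⟨hK, ⟨e⟩⟩
    refine (le_of_eq perm_four_pairs.symm).trans ?_
    rw [card_filter_univ]
    refine Set.ncard_le_ncard_of_injOn (fun p => ((e.symm p.1 : A6), (e.symm p.2 : A6))) ?_ ?_ (Set.toFinite _)
    · rintro ⟨x, y⟩ ⟨⟨h1, h2, h3⟩, ⟨h4, h5, h6⟩, h7, h8⟩
      have hne : ∀ x : Perm (Fin 4), x ≠ 1 → (e.symm x : A6) ≠ 1 := by
        intro x hx h
        apply hx
        have h9 : e.symm x = 1 := Subtype.ext h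
        rwa [map_eq_one_iff e.symm e.symm.injective] at h9
      have hsq : ∀ x : Perm (Fin 4), x * x = 1 → (e.symm x : A6) ^ 2 = 1 := by
        intro x hx
        have h9 : e.symm x * e.symm x = 1 := by rw [← map_mul, hx, map_one]
        rw [pow_two]
        exact congrArg Subtype.val h9
      refine ⟨⟨⟨hne x h1, hsq x h2⟩, ⟨hne y h4, hsq y h5⟩, ?_, ?_⟩, ?_, ?_⟩
      · intro h
        exact h7 (e.symm.injective (Subtype.ext h))
      · have h9 : e.symm x * e.symm y = e.symm y * e.symm x := by rw [← map_mul, ← map_mul]; exact congrArg _ h8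
        exact congrArg Subtype.val h9
      · exact (mem_V e).2 (by rw [e.apply_symm_apply]; exact ⟨h2, h3⟩)
      · exact (mem_V e).2 (by rw [e.apply_symm_apply]; exact ⟨h5, h6⟩)
    · rintro ⟨x, y⟩ - ⟨x', y'⟩ - h
      have h1 := congrArg Prod.fst h
      have h2 := congrArg Prod.snd h
      exact Prod.ext (e.symm.injective (Subtype.ext h1)) (e.symm.injective (Subtype.ext h2))) (by
    rintro ⟨a, b⟩ ⟨⟨ha1, -⟩, ⟨hb1, -⟩, hab, -⟩
    rw [Set.ncard_le_one (Set.toFinite _)]
    have key : ∀ K K' : Subgroup A6, Adm K → Nonempty (K ≃* Perm (Fin 4)) →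
        V K = {1, a, b, a * b} → V K' = {1, a, b, a * b} → K' ≤ K := by
      rintro K K' hK ⟨e⟩ h1 h2 g hg
      refine V_norm e hK ?_
      rw [h1, ← h2]
      exact V_conj hg
    rintro K ⟨⟨hK, he⟩, h1, h2⟩ K' ⟨⟨hK', he'⟩, h1', h2'⟩
    have hV : V K = {1, a, b, a * b} := V_eq he.some h1 h2 ha1 hb1 hab
    have hV' : V K' = {1, a, b, a * b} := V_eq he'.some h1' h2' ha1 hb1 hab
    exact le_antisymm (key K' K hK' he' hV' hV) (key K K' hK he hV hV'))
  have h2 := ncard_TP
  omega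

theorem ncard_adm : {K : Subgroup A6 | Adm K}.ncard ≤ 166 := by
  have hsub : {K : Subgroup A6 | Adm K} ⊆ {K | Adm K ∧ Nonempty (K ≃* DihedralGroup 4)} ∪
      ({K | Adm K ∧ Nonempty (K ≃* DihedralGroup 5)} ∪ ({K | Adm K ∧ Nonempty (K ≃* Perm (Fin 4))} ∪
      ({K | Nonempty (K ≃* alternatingGroup (Fin 5))} ∪ {K | Adm K ∧ (Nat.card K = 36 ∧
        ∃ R : Subgroup A6, (∀ y, y ∈ R ↔ y ∈ K ∧ ∃ k : ℕ, y ^ (3 ^ k) = 1) ∧ R ≠ ⊥)}))) := by
    intro K hK
    rcases adm_ty hK with h | h | h | h | h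
    · exact Or.inl ⟨hK, h⟩
    · exact Or.inr (Or.inl ⟨hK, h⟩)
    · exact Or.inr (Or.inr (Or.inl ⟨hK, h⟩))
    · exact Or.inr (Or.inr (Or.inr (Or.inl h)))
    · exact Or.inr (Or.inr (Or.inr (Or.inr ⟨hK, h⟩)))
  have n4 : {K : Subgroup A6 | Adm K ∧ Nonempty (K ≃* DihedralGroup 4)}.ncard ≤ 45 := by
    refine type_le Nat.prime_two ?_
    rintro K ⟨hK, ⟨e⟩⟩
    obtain ⟨R, hR, hne, -⟩ := exists_sylow_of_card e (r := 2) (k := 3) (m := 1) Nat.prime_two
      (by rw [DihedralGroup.nat_card]; rfl) (by norm_num) (by norm_num)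
      (by rw [← card_filter_univ]; decide +kernel)
    exact ⟨hK, index_of (c := 8) (by rw [Nat.card_congr e.toEquiv, DihedralGroup.nat_card]) (by norm_num), R, hR, hne⟩
  have n5 : {K : Subgroup A6 | Adm K ∧ Nonempty (K ≃* DihedralGroup 5)}.ncard ≤ 36 := by
    refine type_le Nat.prime_five ?_
    rintro K ⟨hK, ⟨e⟩⟩
    obtain ⟨R, hR, hne, -⟩ := exists_sylow_of_card e (r := 5) (k := 1) (m := 2) Nat.prime_five
      (by rw [DihedralGroup.nat_card]; rfl) (by norm_num) one_ne_zero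
      (by rw [← card_filter_univ]; decide +kernel)
    exact ⟨hK, index_of (c := 10) (by rw [Nat.card_congr e.toEquiv, DihedralGroup.nat_card]) (by norm_num), R, hR, hne⟩
  have n9 : {K : Subgroup A6 | Adm K ∧ (Nat.card K = 36 ∧
        ∃ R : Subgroup A6, (∀ y, y ∈ R ↔ y ∈ K ∧ ∃ k : ℕ, y ^ (3 ^ k) = 1) ∧ R ≠ ⊥)}.ncard ≤ 10 := by
    refine type_le Nat.prime_three ?_
    rintro K ⟨hK, hc, hR⟩
    exact ⟨hK, index_of (c := 36) hc (by norm_num), hR⟩
  have n24 := ncard_four
  have n60 := a5_le (L := A6) two_le three_le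
  have h1 := Set.ncard_le_ncard hsub (Set.toFinite _)
  have u1 := Set.ncard_union_le {K : Subgroup A6 | Adm K ∧ Nonempty (K ≃* DihedralGroup 4)}
      ({K | Adm K ∧ Nonempty (K ≃* DihedralGroup 5)} ∪ ({K | Adm K ∧ Nonempty (K ≃* Perm (Fin 4))} ∪
      ({K | Nonempty (K ≃* alternatingGroup (Fin 5))} ∪ {K | Adm K ∧ (Nat.card K = 36 ∧
        ∃ R : Subgroup A6, (∀ y, y ∈ R ↔ y ∈ K ∧ ∃ k : ℕ, y ^ (3 ^ k) = 1) ∧ R ≠ ⊥)})))
  have u2 := Set.ncard_union_le {K : Subgroup A6 | Adm K ∧ Nonempty (K ≃* DihedralGroup 5)}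
      ({K | Adm K ∧ Nonempty (K ≃* Perm (Fin 4))} ∪
      ({K | Nonempty (K ≃* alternatingGroup (Fin 5))} ∪ {K | Adm K ∧ (Nat.card K = 36 ∧
        ∃ R : Subgroup A6, (∀ y, y ∈ R ↔ y ∈ K ∧ ∃ k : ℕ, y ^ (3 ^ k) = 1) ∧ R ≠ ⊥)}))
  have u3 := Set.ncard_union_le {K : Subgroup A6 | Adm K ∧ Nonempty (K ≃* Perm (Fin 4))}
      ({K | Nonempty (K ≃* alternatingGroup (Fin 5))} ∪ {K | Adm K ∧ (Nat.card K = 36 ∧
        ∃ R : Subgroup A6, (∀ y, y ∈ R ↔ y ∈ K ∧ ∃ k : ℕ, y ^ (3 ^ k) = 1) ∧ R ≠ ⊥)})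
  have u4 := Set.ncard_union_le {K : Subgroup A6 | Nonempty (K ≃* alternatingGroup (Fin 5))}
    {K | Adm K ∧ (Nat.card K = 36 ∧
        ∃ R : Subgroup A6, (∀ y, y ∈ R ↔ y ∈ K ∧ ∃ k : ℕ, y ^ (3 ^ k) = 1) ∧ R ≠ ⊥)}
  omega

/-! ### involutions -/

theorem mem_D_two {L : Type*} [Group L] {x : L} : x ∈ D L 2 ↔ orderOf x = 2 := by
  have : Fact (Nat.Prime 2) := ⟨Nat.prime_two⟩
  rw [orderOf_eq_prime_iff]
  exact and_comm

theorem inv_card {L : Type*} [Group L] {K : Subgroup L} {X : Type*} [Group X] (e : K ≃* X) :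
    Nat.card {l : L // l ∈ K ∧ orderOf l = 2} = (D X 2).ncard := by
  rw [← Nat.card_coe_set_eq]
  refine Nat.card_congr ⟨fun l => ⟨e ⟨l.1, l.2.1⟩, ?_⟩, fun x => ⟨(e.symm x.1 : K), (e.symm x.1).2, ?_⟩, ?_, ?_⟩
  · rw [mem_D_two, e.orderOf_eq, Subgroup.orderOf_mk]
    exact l.2.2
  · rw [Subgroup.orderOf_coe, e.symm.orderOf_eq]
    exact mem_D_two.1 x.2
  · rintro ⟨l, hl, h2⟩
    apply Subtype.ext
    show ((e.symm (e ⟨l, hl⟩) : K) : L) = l
    rw [e.symm_apply_apply]
  · rintro ⟨x, hx⟩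
    apply Subtype.ext
    show e ⟨(e.symm x : K), _⟩ = x
    exact e.apply_symm_apply x

theorem d4_two : (Finset.univ.filter (fun x : DihedralGroup 4 => x ≠ 1 ∧ x ^ 2 = 1)).card = 5 := by decide +kernel
theorem d5_two : (Finset.univ.filter (fun x : DihedralGroup 5 => x ≠ 1 ∧ x ^ 2 = 1)).card = 5 := by decide +kernel
theorem s4_two : (Finset.univ.filter (fun x : Perm (Fin 4) => x ≠ 1 ∧ x ^ 2 = 1)).card = 9 := by decide +kernel
theorem a5_two : (Finset.univ.filter (fun x : alternatingGroup (Fin 5) => x ≠ 1 ∧ x ^ 2 = 1)).card = 15 := by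
  (set_option synthInstance.maxSize 9000 in open scoped Cfsg.Agent.Lib.FastPerm in decide +kernel)

/-- a subgroup of even order and its involutions -/
theorem inv_mul {K : Subgroup A6} (h2 : 2 ∣ Nat.card K) :
    Nat.card K ≤ Nat.card {l : A6 // l ∈ K ∧ orderOf l = 2} * 8 := by
  have : Fact (Nat.Prime 2) := ⟨Nat.prime_two⟩
  obtain ⟨t, ht⟩ := exists_prime_orderOf_dvd_card' 2 h2
  have ht' : orderOf (t : A6) = 2 := by rw [Subgroup.orderOf_coe, ht]
  have ht2 : (t : A6) ∈ D A6 2 := mem_D_two.2 ht'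
  have h := Cfsg.Agent.H220.EP.ncard_mul_le (K : Set A6) {l : A6 | l ∈ K ∧ orderOf l = 2}
    (fun k l => k * t * k⁻¹ = l) (m := 1) (n := 8) (by
    intro k hk
    rw [Nat.one_le_iff_ne_zero, Ne, Set.ncard_eq_zero (Set.toFinite _), ← Ne, ← Set.nonempty_iff_ne_empty]
    refine ⟨k * t * k⁻¹, ⟨K.mul_mem (K.mul_mem hk t.2) (K.inv_mem hk), ?_⟩, rfl⟩
    have h3 : orderOf (MulAut.conj k (t : A6)) = orderOf (t : A6) := (MulAut.conj k).orderOf_eq _
    rw [MulAut.conj_apply, ht'] at h3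
    exact h3) (by
    rintro l -
    rcases Set.eq_empty_or_nonempty {a : A6 | a ∈ (K : Set A6) ∧ a * t * a⁻¹ = l} with h0 | ⟨k0, -, hk0⟩
    · rw [h0, Set.ncard_empty]
      exact Nat.zero_le _
    · refine le_trans ?_ (cent_le ht2.1 ht2.2)
      refine Set.ncard_le_ncard_of_injOn (fun k => k0⁻¹ * k) ?_ ?_ (Set.toFinite _)
      · rintro k ⟨-, hk⟩
        show (t : A6) * (k0⁻¹ * k) = k0⁻¹ * k * t
        have h4 : k * t * k⁻¹ = k0 * t * k0⁻¹ := hk.trans hk0.symm
        have h5 : k * t = k0 * t * k0⁻¹ * k := by rw [← h4]; group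
        rw [mul_assoc k0⁻¹ k, h5]
        group
      · rintro a - b - h5
        exact mul_left_cancel h5)
  rw [mul_one] at h
  rw [← Nat.card_coe_set_eq, ← Nat.card_coe_set_eq] at h
  exact h

/-- **H4** every admissible subgroup of `A₆` contains at least five involutions -/
theorem inv_ge {K : Subgroup A6} (hK : Adm K) : 5 ≤ Nat.card {l : A6 // l ∈ K ∧ orderOf l = 2} := by
  rcases adm_ty hK with ⟨⟨e⟩⟩ | ⟨⟨e⟩⟩ | ⟨⟨e⟩⟩ | ⟨⟨e⟩⟩ | ⟨hc, -⟩
  · rw [inv_card e]
    exact le_of_eq (d4_two.symm.trans (card_filter_univ _))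
  · rw [inv_card e]
    exact le_of_eq (d5_two.symm.trans (card_filter_univ _))
  · rw [inv_card e]
    exact le_trans (by norm_num) (le_of_eq (s4_two.symm.trans (card_filter_univ _)))
  · rw [inv_card e]
    exact le_trans (by norm_num) (le_of_eq (a5_two.symm.trans (card_filter_univ _)))
  · have h1 := inv_mul (K := K) (by rw [hc]; norm_num)
    omega

theorem card_aut : Nat.card (MulAut A6) = 1440 := by
  have : Fact (Nat.Prime 3) := ⟨Nat.prime_three⟩
  let F := GaloisField 3 2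
  have : Finite F := inferInstanceAs (Finite (GaloisField 3 2))
  have : Fintype F := Fintype.ofFinite F
  have hF : Fintype.card F = 9 := by
    rw [← Nat.card_eq_fintype_card, GaloisField.card 3 2 two_ne_zero]
    norm_num
  obtain ⟨f⟩ := Cfsg.Agent.S0254.result hF
  rw [← Nat.card_congr (MulAut.congr f).toEquiv, Cfsg.Agent.S0813.result 3 2 one_le_two hF 2 le_rfl (fun _ => by norm_num),
    Cfsg.Agent.S0265.result, Cfsg.Agent.ClassicalGeometry.PSL2Basic.card_SL2, hF]
  norm_num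

theorem center_A6 : ∀ z : A6, (∀ x, z * x = x * z) → z = 1 := by
  intro z hz
  have h1 : z ∈ center A6 := mem_center_iff.2 fun g => (hz g).symm
  rcases (inferInstance : (center A6).Normal).eq_bot_or_eq_top with h2 | h2
  · rwa [h2, mem_bot] at h1
  · exfalso
    obtain ⟨a, b, hab⟩ := ncomm
    have h3 : b ∈ center A6 := by rw [h2]; exact mem_top b
    exact hab (mem_center_iff.1 h3 a)

/-- commutators are inner if the inner automorphisms have index 4 -/
theorem out_comm {L : Type*} [Group L] [Finite L] (hc : ∀ z : L, (∀ x, z * x = x * z) → z = 1)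
    (h : Nat.card (MulAut L) = 4 * Nat.card L) (α β : MulAut L) :
    α * β * α⁻¹ * β⁻¹ ∈ (MulAut.conj : L →* MulAut L).range := by
  have hinj : Function.Injective (MulAut.conj : L →* MulAut L) := by
    rw [injective_iff_map_eq_one]
    intro z hz
    apply hc
    intro x
    have h1 := DFunLike.congr_fun hz x
    rw [MulAut.conj_apply, MulAut.one_apply, mul_inv_eq_iff_eq_mul] at h1
    exact h1
  have h1 : Nat.card (MulAut.conj : L →* MulAut L).range = Nat.card L :=
    (Nat.card_congr (MonoidHom.ofInjective hinj).toEquiv).symm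
  have h2 : (MulAut.conj : L →* MulAut L).range.index = 4 := by
    have h3 := (MulAut.conj : L →* MulAut L).range.card_mul_index
    rw [h1, h, mul_comm 4] at h3
    exact Nat.eq_of_mul_eq_mul_left Nat.card_pos h3
  have hn : (MulAut.conj : L →* MulAut L).range.Normal := by
    constructor
    rintro _ ⟨l, rfl⟩ φ
    refine ⟨φ l, ?_⟩
    ext x
    simp [MulAut.conj_apply, MulAut.mul_apply]
  have : Fact (Nat.Prime 2) := ⟨Nat.prime_two⟩
  have h3 : Nat.card (MulAut L ⧸ (MulAut.conj : L →* MulAut L).range) = 2 ^ 2 := h2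
  have h4 := (IsPGroup.isMulCommutative_of_card_eq_prime_sq h3).is_comm.comm
    (α : MulAut L ⧸ (MulAut.conj : L →* MulAut L).range) β
  rw [← QuotientGroup.eq_one_iff]
  show (α : MulAut L ⧸ (MulAut.conj : L →* MulAut L).range) * β * (α : MulAut L ⧸ (MulAut.conj : L →* MulAut L).range)⁻¹ *
    (β : MulAut L ⧸ (MulAut.conj : L →* MulAut L).range)⁻¹ = 1
  rw [h4]
  group

end Cfsg.Agent.H417.EP.Six
end
end
end
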